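import Groth.Agent.ZeroCyc.K757.Ev
import Mathlib.RingTheory.Spectrum.Prime.Topology
import Mathlib.Algebra.Polynomial.AlgebraMap
import Mathlib.LinearAlgebra.Prod

/-!
# Laws on a product of two algebras over a connected base
-/

set_option autoImplicit false
universe u
open scoped TensorProduct
open K757.Ev

namespace K757.ProdLaw

section Idem

variable {A : Type u} [CommRing A]

theorem eq_zero_or_one [ConnectedSpace (PrimeSpectrum A)] {e : A} (he : IsIdempotentElem e) : e = 0 ∨ e = 1 := by
  have hcl : IsClopen (PrimeSpectrum.basicOpen e : Set (PrimeSpectrum A)) :=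
    PrimeSpectrum.isClopen_iff.mpr ⟨e, he, rfl⟩
  obtain ⟨f, -, hf⟩ := PrimeSpectrum.existsUnique_idempotent_basicOpen_eq_of_isClopen hcl
  have h1 := hf e ⟨he, rfl⟩
  rcases isClopen_iff.mp hcl with h | h
  · left
    rw [h1, hf 0 ⟨IsIdempotentElem.zero, by rw [h]; simp⟩]
  · right
    rw [h1, hf 1 ⟨IsIdempotentElem.one, by rw [h]; simp⟩]

end Idem

section Scalar

variable {A : Type u} [CommRing A] {B : Type u} [CommRing B] [Algebra A B]

theorem eq_mulMap_tmul {S : Type u} [CommSemiring S] [Algebra A S] (z : S ⊗[A] A) :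
    z = mulMap (Algebra.ofId A S) z ⊗ₜ[A] 1 := by
  induction z using TensorProduct.induction_on with
  | zero => simp
  | tmul s a =>
    rw [mulMap_tmul, Algebra.ofId_apply, mul_comm, ← Algebra.smul_def, TensorProduct.smul_tmul, smul_eq_mul, mul_one]
  | add x y hx hy => rw [map_add, TensorProduct.add_tmul, ← hx, ← hy]

theorem toFun'_eq (F : B →ₚₗ[A] A) {S : Type u} [CommSemiring S] [Algebra A S] (x : S ⊗[A] B) :
    F.toFun' S x = ev F (Algebra.ofId A S) x ⊗ₜ[A] 1 := eq_mulMap_tmul _

theorem ofId_comp {S T : Type u} [CommSemiring S] [Algebra A S] [CommSemiring T] [Algebra A T] (h : S →ₐ[A] T) :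
    h.comp (Algebra.ofId A S) = Algebra.ofId A T := Subsingleton.elim _ _

/-- degree of a law along an idempotent, over a connected base. -/
theorem exists_degree [ConnectedSpace (PrimeSpectrum A)] {d : ℕ} (F : PolLaw.MulLaw A B A d) {e₁ e₂ : B}
    (h1 : e₁ * e₁ = e₁) (h2 : e₂ * e₂ = e₂) (h12 : e₁ * e₂ = 0) (hs : e₁ + e₂ = 1) :
    ∃ n : ℕ, ∀ (S : Type u) [CommSemiring S] [Algebra A S] (s : S),
      ev F.law (Algebra.ofId A S) (s ⊗ₜ[A] e₁ + 1 ⊗ₜ[A] e₂) = s ^ n := by
  classical
  have hA : Nontrivial A := by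
    by_contra h
    rw [not_nontrivial_iff_subsingleton] at h
    obtain ⟨p⟩ := (inferInstance : Nonempty (PrimeSpectrum A))
    exact p.2.ne_top (Subsingleton.elim _ _)
  let p : Polynomial A := ev F.law (Algebra.ofId A (Polynomial A)) (Polynomial.X ⊗ₜ[A] e₁ + 1 ⊗ₜ[A] e₂)
  have hp : ∀ (S : Type u) [CommSemiring S] [Algebra A S] (s : S),
      ev F.law (Algebra.ofId A S) (s ⊗ₜ[A] e₁ + 1 ⊗ₜ[A] e₂) = Polynomial.aeval s p := by
    intro S _ _ s
    rw [ev_map, ofId_comp]
    congr 1
    simp
  have hmul : ∀ (S : Type u) [CommSemiring S] [Algebra A S] (s t : S),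
      Polynomial.aeval s p * Polynomial.aeval t p = Polynomial.aeval (s * t) p := by
    intro S _ _ s t
    rw [← hp, ← hp, ← hp, ← ev_mul F.mult]
    congr 1
    have h21 : e₂ * e₁ = 0 := by rw [mul_comm, h12]
    simp only [add_mul, mul_add, Algebra.TensorProduct.tmul_mul_tmul, h1, h2, h12, h21, TensorProduct.tmul_zero,
      add_zero, zero_add, mul_one]
  have hone : Polynomial.aeval (1 : A) p = 1 := by
    rw [← hp, ← TensorProduct.tmul_add, hs, ← Algebra.TensorProduct.one_def, ev_one F.mult]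
  -- orthogonality of the coefficients
  have horth : ∀ i j, p.coeff i * p.coeff j = if i = j then p.coeff j else 0 := by
    intro i j
    have h := hmul (Polynomial (Polynomial A)) (Polynomial.C Polynomial.X) Polynomial.X
    have e1 : Polynomial.aeval (Polynomial.C Polynomial.X : Polynomial (Polynomial A)) p = Polynomial.C p := by
      have := Polynomial.aeval_algHom_apply (IsScalarTower.toAlgHom A (Polynomial A) (Polynomial (Polynomial A)))
        (Polynomial.X : Polynomial A) p
      rw [Polynomial.aeval_X_left_apply] at this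
      exact this
    have e2 : Polynomial.aeval (Polynomial.X : Polynomial (Polynomial A)) p = p.map Polynomial.C := by
      rw [Polynomial.aeval_def, Polynomial.eval₂_eq_sum_range, Polynomial.as_sum_range_C_mul_X_pow (p.map _)]
      rw [Polynomial.natDegree_map_eq_of_injective Polynomial.C_injective]
      refine Finset.sum_congr rfl fun k _ => ?_
      rw [Polynomial.coeff_map]; rfl
    rw [e1, e2] at h
    have h' := congr_arg (fun q => (Polynomial.coeff q j).coeff i) h
    simp only [Polynomial.coeff_C_mul, Polynomial.coeff_map] at h'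
    rw [mul_comm, Polynomial.coeff_C_mul, mul_comm] at h'
    rw [h', Polynomial.aeval_def, Polynomial.eval₂_eq_sum_range, Polynomial.finsetSum_coeff, Polynomial.finsetSum_coeff]
    have h3 : ∀ k ∈ Finset.range (p.natDegree + 1), (((algebraMap A (Polynomial (Polynomial A))) (p.coeff k) *
        (Polynomial.C Polynomial.X * Polynomial.X) ^ k).coeff j).coeff i =
        if k = j then (if i = j then p.coeff j else 0) else 0 := by
      intro k _
      have : (algebraMap A (Polynomial (Polynomial A))) (p.coeff k) *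
        (Polynomial.C Polynomial.X * Polynomial.X) ^ k = Polynomial.C (Polynomial.C (p.coeff k) * Polynomial.X ^ k) *
          Polynomial.X ^ k := by
        rw [mul_pow, ← mul_assoc, map_mul, map_pow]; rfl
      rw [this, Polynomial.coeff_C_mul, Polynomial.coeff_X_pow]
      by_cases hkj : j = k
      · subst hkj
        rw [if_pos rfl, if_pos rfl, mul_one, Polynomial.coeff_C_mul, Polynomial.coeff_X_pow]
        split_ifs <;> simp
      · rw [if_neg hkj, if_neg (fun h => hkj h.symm), mul_zero, Polynomial.coeff_zero]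
    rw [Finset.sum_congr rfl h3, Finset.sum_ite_eq']
    split_ifs with h4 h5 h5
    · rfl
    · rfl
    · rw [Finset.mem_range, not_lt] at h4
      rw [Polynomial.coeff_eq_zero_of_natDegree_lt (by omega)]
    · rfl
  -- some coefficient is nonzero
  have hne : ∃ n, p.coeff n ≠ 0 := by
    by_contra hcon
    push Not at hcon
    have : p = 0 := Polynomial.ext fun n => by rw [hcon n, Polynomial.coeff_zero]
    rw [this, map_zero] at hone
    exact zero_ne_one hone
  obtain ⟨n, hn⟩ := hne
  have hn1 : p.coeff n = 1 := by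
    rcases eq_zero_or_one (e := p.coeff n) (by rw [IsIdempotentElem, horth, if_pos rfl]) with h | h
    · exact absurd h hn
    · exact h
  have hpn : p = Polynomial.X ^ n := by
    ext m
    rw [Polynomial.coeff_X_pow]
    split_ifs with h
    · rw [h, hn1]
    · rw [← mul_one (p.coeff m), ← hn1, horth, if_neg h]
  refine ⟨n, fun S _ _ s => ?_⟩
  rw [hp, hpn, map_pow, Polynomial.aeval_X]

end Scalar

section Law

variable {A : Type u} [CommRing A] {B B' C : Type u} [CommRing B] [Algebra A B] [CommRing B'] [Algebra A B']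
  [CommRing C] [Algebra A C]

/-- the law `x ↦ F(i x + e)`. -/
noncomputable def shift (F : B →ₚₗ[A] C) (i : B' →ₗ[A] B) (e : B) : B' →ₚₗ[A] C where
  toFun' S _ _ x := F.toFun' S (i.lTensor S x + 1 ⊗ₜ[A] e)
  isCompat' {S} _ _ {S'} _ _ φ := by
    funext x
    simp only [Function.comp_apply]
    rw [F.isCompat_apply', map_add, ← LinearMap.comp_apply, LinearMap.rTensor_comp_lTensor,
      ← LinearMap.lTensor_comp_rTensor, LinearMap.comp_apply]
    simp

theorem shift_isMult {F : B →ₚₗ[A] C} (hF : PolLaw.IsMult F) (i : B' →ₗ[A] B) (e : B)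
    (h1 : i 1 + e = 1) (hm : ∀ x y, i (x * y) = i x * i y) (he : ∀ x, i x * e = 0) (hee : e * e = e) :
    PolLaw.IsMult (shift F i e) := by
  intro S _ _
  refine ⟨?_, fun x y => ?_⟩
  · change F.toFun' S (i.lTensor S 1 + 1 ⊗ₜ[A] e) = 1
    rw [Algebra.TensorProduct.one_def, LinearMap.lTensor_tmul, ← TensorProduct.tmul_add, h1,
      ← Algebra.TensorProduct.one_def, (hF S).1]
  · change F.toFun' S (i.lTensor S (x * y) + 1 ⊗ₜ[A] e) =
      F.toFun' S (i.lTensor S x + 1 ⊗ₜ[A] e) * F.toFun' S (i.lTensor S y + 1 ⊗ₜ[A] e)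
    rw [← (hF S).2]
    congr 1
    have hmul : i.lTensor S (x * y) = i.lTensor S x * i.lTensor S y := by
      induction x using TensorProduct.induction_on with
      | zero => simp
      | add x x' hx hx' => simp only [add_mul, map_add, hx, hx']
      | tmul s b =>
        induction y using TensorProduct.induction_on with
        | zero => simp
        | add x x' hx hx' => simp only [mul_add, map_add, hx, hx']
        | tmul t c => simp [Algebra.TensorProduct.tmul_mul_tmul, hm]
    have hzero : ∀ z : S ⊗[A] B', i.lTensor S z * (1 ⊗ₜ[A] e) = 0 := by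
      intro z
      induction z using TensorProduct.induction_on with
      | zero => simp
      | add x x' hx hx' => simp only [add_mul, map_add, hx, hx', add_zero]
      | tmul t c => simp [Algebra.TensorProduct.tmul_mul_tmul, he]
    rw [add_mul, mul_add, mul_add, hzero, mul_comm (1 ⊗ₜ[A] e) (i.lTensor S y), hzero,
      Algebra.TensorProduct.tmul_mul_tmul, mul_one, hee, hmul, add_zero, zero_add]

end Law

section Main

variable {A : Type u} [CommRing A] [ConnectedSpace (PrimeSpectrum A)]
    {B₁ : Type u} [CommRing B₁] [Algebra A B₁] {B₂ : Type u} [CommRing B₂] [Algebra A B₂]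
    {d : ℕ} (F : PolLaw.MulLaw A (B₁ × B₂) A d)

theorem main : ∃ d₁ d₂ : ℕ, d₁ + d₂ = d ∧
      (∃ (F₁ : PolLaw.MulLaw A B₁ A d₁) (F₂ : PolLaw.MulLaw A B₂ A d₂),
        ∀ (S : Type u) [CommSemiring S] [Algebra A S] (x : S ⊗[A] (B₁ × B₂)),
          F.law.toFun' S x = F₁.law.toFun' S (LinearMap.lTensor S (LinearMap.fst A B₁ B₂) x) *
            F₂.law.toFun' S (LinearMap.lTensor S (LinearMap.snd A B₁ B₂) x)) ∧
      ∀ (e₁ e₂ : ℕ) (G₁ : PolLaw.MulLaw A B₁ A e₁) (G₂ : PolLaw.MulLaw A B₂ A e₂),
        (∀ (S : Type u) [CommSemiring S] [Algebra A S] (x : S ⊗[A] (B₁ × B₂)),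
          F.law.toFun' S x = G₁.law.toFun' S (LinearMap.lTensor S (LinearMap.fst A B₁ B₂) x) *
            G₂.law.toFun' S (LinearMap.lTensor S (LinearMap.snd A B₁ B₂) x)) → e₁ = d₁ ∧ e₂ = d₂ := by
  have hA : Nontrivial A := by
    by_contra h
    rw [not_nontrivial_iff_subsingleton] at h
    obtain ⟨p⟩ := (inferInstance : Nonempty (PrimeSpectrum A))
    exact p.2.ne_top (Subsingleton.elim _ _)
  have hoo : ((1 : B₁), (0 : B₂)) + (0, 1) = 1 := by ext <;> simp
  have hoo' : ((0 : B₁), (1 : B₂)) + (1, 0) = 1 := by ext <;> simp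
  obtain ⟨d₁, hd₁⟩ := exists_degree F (e₁ := ((1 : B₁), (0 : B₂))) (e₂ := (0, 1)) (by ext <;> simp) (by ext <;> simp)
    (by ext <;> simp) hoo
  obtain ⟨d₂, hd₂⟩ := exists_degree F (e₁ := ((0 : B₁), (1 : B₂))) (e₂ := (1, 0)) (by ext <;> simp) (by ext <;> simp)
    (by ext <;> simp) hoo'
  have hsum : d₁ + d₂ = d := by
    have h1 := hd₁ (Polynomial A) Polynomial.X
    have h2 := hd₂ (Polynomial A) Polynomial.X
    have h3 : ev F.law (Algebra.ofId A (Polynomial A)) ((Polynomial.X : Polynomial A) • 1) = Polynomial.X ^ d := by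
      rw [ev_smul F.homog, ev_one F.mult, mul_one]
    have h4 : ((Polynomial.X : Polynomial A) • (1 : Polynomial A ⊗[A] (B₁ × B₂))) =
        (Polynomial.X ⊗ₜ[A] ((1 : B₁), (0 : B₂)) + 1 ⊗ₜ[A] (0, 1)) *
          (Polynomial.X ⊗ₜ[A] ((0 : B₁), (1 : B₂)) + 1 ⊗ₜ[A] (1, 0)) := by
      simp only [add_mul, mul_add, Algebra.TensorProduct.tmul_mul_tmul, Prod.mk_mul_mk, mul_zero, mul_one,
        one_mul]
      have : ((0 : B₁), (0 : B₂)) = 0 := rfl
      rw [this, TensorProduct.tmul_zero, TensorProduct.tmul_zero, zero_add, add_zero, ← TensorProduct.tmul_add, hoo',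
        Algebra.TensorProduct.one_def, TensorProduct.smul_tmul', smul_eq_mul, mul_one]
    rw [h4, ev_mul F.mult, h1, h2, ← pow_add] at h3
    have := congr_arg Polynomial.natDegree h3
    rwa [Polynomial.natDegree_X_pow, Polynomial.natDegree_X_pow] at this
  have hsmul : ∀ (S : Type u) [CommSemiring S] [Algebra A S] (s : S) (B' : Type u) [CommRing B'] [Algebra A B']
      (i : B' →ₗ[A] (B₁ × B₂)) (e : B₁ × B₂) (e' : B₁ × B₂) (n : ℕ) (he' : ∀ x, e' * i x = i x) (he : ∀ x, e * i x = 0)
      (hee' : e' * e = 0) (hee : e * e = e)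
      (hn : ∀ (S : Type u) [CommSemiring S] [Algebra A S] (s : S),
        ev F.law (Algebra.ofId A S) (s ⊗ₜ[A] e' + 1 ⊗ₜ[A] e) = s ^ n) (x : S ⊗[A] B'),
      (shift F.law i e).toFun' S (s • x) = s ^ n • (shift F.law i e).toFun' S x := by
    intro S _ _ s B' _ _ i e e' n he' he hee' hee hn x
    change F.law.toFun' S (i.lTensor S (s • x) + 1 ⊗ₜ[A] e) = s ^ n • F.law.toFun' S (i.lTensor S x + 1 ⊗ₜ[A] e)
    have h1 : i.lTensor S (s • x) + 1 ⊗ₜ[A] e =
        (s ⊗ₜ[A] e' + 1 ⊗ₜ[A] e) * (i.lTensor S x + 1 ⊗ₜ[A] e) := by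
      have h2 : ∀ x : S ⊗[A] B', i.lTensor S (s • x) = (s ⊗ₜ[A] e' + 1 ⊗ₜ[A] e) * i.lTensor S x := by
        intro x
        induction x using TensorProduct.induction_on with
        | zero => simp
        | add x x' hx hx' => simp only [mul_add, map_add, smul_add, hx, hx']
        | tmul t c => simp [TensorProduct.smul_tmul', add_mul, Algebra.TensorProduct.tmul_mul_tmul, he, he']
      rw [h2, mul_add, add_mul _ _ (1 ⊗ₜ[A] e), Algebra.TensorProduct.tmul_mul_tmul,
        Algebra.TensorProduct.tmul_mul_tmul, hee', hee, TensorProduct.tmul_zero, zero_add, one_mul]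
    rw [h1, (F.mult S).2, toFun'_eq F.law (s ⊗ₜ[A] e' + 1 ⊗ₜ[A] e), hn]
    rw [Algebra.smul_def]; rfl
  let F₁ : PolLaw.MulLaw A B₁ A d₁ :=
    { law := shift F.law (LinearMap.inl A B₁ B₂) (0, 1)
      homog := fun S _ _ s x => hsmul S s B₁ (LinearMap.inl A B₁ B₂) (0, 1) (1, 0) d₁
        (fun x => by ext <;> simp) (fun x => by ext <;> simp) (by ext <;> simp) (by ext <;> simp) hd₁ x
      mult := shift_isMult F.mult _ _ (by ext <;> simp) (fun x y => by ext <;> simp) (fun x => by ext <;> simp)
        (by ext <;> simp) }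
  let F₂ : PolLaw.MulLaw A B₂ A d₂ :=
    { law := shift F.law (LinearMap.inr A B₁ B₂) (1, 0)
      homog := fun S _ _ s x => hsmul S s B₂ (LinearMap.inr A B₁ B₂) (1, 0) (0, 1) d₂
        (fun x => by ext <;> simp) (fun x => by ext <;> simp) (by ext <;> simp) (by ext <;> simp) hd₂ x
      mult := shift_isMult F.mult _ _ (by ext <;> simp) (fun x y => by ext <;> simp) (fun x => by ext <;> simp)
        (by ext <;> simp) }
  refine ⟨d₁, d₂, hsum, ⟨F₁, F₂, ?_⟩, ?_⟩
  · intro S _ _ x
    change _ = F.law.toFun' S ((LinearMap.inl A B₁ B₂).lTensor S ((LinearMap.fst A B₁ B₂).lTensor S x) + 1 ⊗ₜ[A] (0, 1)) *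
      F.law.toFun' S ((LinearMap.inr A B₁ B₂).lTensor S ((LinearMap.snd A B₁ B₂).lTensor S x) + 1 ⊗ₜ[A] (1, 0))
    rw [← (F.mult S).2]
    congr 1
    have e1 : ∀ x : S ⊗[A] (B₁ × B₂), (LinearMap.inl A B₁ B₂).lTensor S ((LinearMap.fst A B₁ B₂).lTensor S x) =
        x * (1 ⊗ₜ[A] (1, 0)) := by
      intro x
      induction x using TensorProduct.induction_on with
      | zero => simp
      | add x x' hx hx' => simp only [add_mul, map_add, hx, hx']
      | tmul t c => obtain ⟨c, c'⟩ := c; simp [Algebra.TensorProduct.tmul_mul_tmul]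
    have e2 : ∀ x : S ⊗[A] (B₁ × B₂), (LinearMap.inr A B₁ B₂).lTensor S ((LinearMap.snd A B₁ B₂).lTensor S x) =
        x * (1 ⊗ₜ[A] (0, 1)) := by
      intro x
      induction x using TensorProduct.induction_on with
      | zero => simp
      | add x x' hx hx' => simp only [add_mul, map_add, hx, hx']
      | tmul t c => obtain ⟨c, c'⟩ := c; simp [Algebra.TensorProduct.tmul_mul_tmul]
    rw [e1, e2]
    set a : S ⊗[A] (B₁ × B₂) := 1 ⊗ₜ[A] (1, 0) with ha
    set b : S ⊗[A] (B₁ × B₂) := 1 ⊗ₜ[A] (0, 1) with hb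
    have haa : a * a = a := by simp [ha, Algebra.TensorProduct.tmul_mul_tmul]
    have hbb : b * b = b := by simp [hb, Algebra.TensorProduct.tmul_mul_tmul]
    have hab : a * b = 0 := by
      have : ((0 : B₁), (0 : B₂)) = 0 := rfl
      simp [ha, hb, Algebra.TensorProduct.tmul_mul_tmul, this]
    have h1 : a + b = 1 := by rw [ha, hb, ← TensorProduct.tmul_add, hoo, ← Algebra.TensorProduct.one_def]
    have h3 : (x * a + b) * (x * b + a) = x * (a * a) + x * (b * b) + (x * x) * (a * b) + a * b := by ring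
    rw [h3, haa, hbb, hab, mul_zero, add_zero, add_zero, ← mul_add, h1, mul_one]
  · intro e₁ e₂ G₁ G₂ hG
    have key1 : (Polynomial.X : Polynomial A) ^ d₁ = Polynomial.X ^ e₁ := by
      have h1 := hd₁ (Polynomial A) Polynomial.X
      have h2 := hG (Polynomial A) (Polynomial.X ⊗ₜ[A] (1, 0) + 1 ⊗ₜ[A] (0, 1))
      rw [map_add, map_add, LinearMap.lTensor_tmul, LinearMap.lTensor_tmul, LinearMap.lTensor_tmul,
        LinearMap.lTensor_tmul] at h2
      simp only [LinearMap.fst_apply, LinearMap.snd_apply, TensorProduct.tmul_zero, add_zero, zero_add] at h2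
      rw [← Algebra.TensorProduct.one_def, (G₂.mult _).1, mul_one, toFun'_eq, toFun'_eq, h1] at h2
      have h3 := congr_arg (mulMap (Algebra.ofId A (Polynomial A))) h2
      rw [mulMap_tmul, mulMap_tmul, map_one, mul_one, mul_one] at h3
      rw [h3]
      have h4 : (Polynomial.X : Polynomial A) ⊗ₜ[A] (1 : B₁) = (Polynomial.X : Polynomial A) • 1 := by
        rw [Algebra.TensorProduct.one_def, TensorProduct.smul_tmul', smul_eq_mul, mul_one]
      rw [h4, ev_smul G₁.homog, ev_one G₁.mult, mul_one]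
    have key2 : (Polynomial.X : Polynomial A) ^ d₂ = Polynomial.X ^ e₂ := by
      have h1 := hd₂ (Polynomial A) Polynomial.X
      have h2 := hG (Polynomial A) (Polynomial.X ⊗ₜ[A] (0, 1) + 1 ⊗ₜ[A] (1, 0))
      rw [map_add, map_add, LinearMap.lTensor_tmul, LinearMap.lTensor_tmul, LinearMap.lTensor_tmul,
        LinearMap.lTensor_tmul] at h2
      simp only [LinearMap.fst_apply, LinearMap.snd_apply, TensorProduct.tmul_zero, add_zero, zero_add] at h2
      rw [← Algebra.TensorProduct.one_def, (G₁.mult _).1, one_mul, toFun'_eq, toFun'_eq, h1] at h2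
      have h3 := congr_arg (mulMap (Algebra.ofId A (Polynomial A))) h2
      rw [mulMap_tmul, mulMap_tmul, map_one, mul_one, mul_one] at h3
      rw [h3]
      have h4 : (Polynomial.X : Polynomial A) ⊗ₜ[A] (1 : B₂) = (Polynomial.X : Polynomial A) • 1 := by
        rw [Algebra.TensorProduct.one_def, TensorProduct.smul_tmul', smul_eq_mul, mul_one]
      rw [h4, ev_smul G₂.homog, ev_one G₂.mult, mul_one]
    constructor
    · have := congr_arg Polynomial.natDegree key1
      rw [Polynomial.natDegree_X_pow, Polynomial.natDegree_X_pow] at this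
      exact this.symm
    · have := congr_arg Polynomial.natDegree key2
      rw [Polynomial.natDegree_X_pow, Polynomial.natDegree_X_pow] at this
      exact this.symm

end Main

end K757.ProdLaw
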