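import Groth.Agent.ZeroCyc.K757.TSBasis
import Mathlib.LinearAlgebra.TensorProduct.RightExactness

/-!
# The Cayley–Hamilton theorem for multiplicative laws
-/

set_option autoImplicit false
universe u
open scoped TensorProduct
open K757.Ev K757.Coeff K757.TSFree K757.TSBasis

namespace K757.CH

section Def

variable {A : Type u} [CommRing A] {B : Type u} [CommRing B] [Algebra A B]
  {C : Type u} [CommRing C] [Algebra A C]

/-- `T → T ⊗ B`. -/
noncomputable abbrev iL (T : Type u) [CommRing T] [Algebra A T] (B : Type u) [CommRing B] [Algebra A B] :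
    T →ₐ[A] T ⊗[A] B := Algebra.TensorProduct.includeLeft

/-- The Cayley–Hamilton element `χ_b(b)`, where `χ_b(X) = F(b - X)`, for `b ∈ T ⊗ B`. -/
noncomputable def chB (F : B →ₚₗ[A] C) {T : Type u} [CommRing T] [Algebra A T] (g : C →ₐ[A] T)
    (b : T ⊗[A] B) : T ⊗[A] B :=
  ev F ((iL T B).comp g) (bc B (iL T B) b - iL (T ⊗[A] B) B b)

theorem bc_bc {T T' T'' : Type u} [CommRing T] [Algebra A T] [CommRing T'] [Algebra A T'] [CommRing T''] [Algebra A T'']
    (h : T →ₐ[A] T') (h' : T' →ₐ[A] T'') (x : T ⊗[A] B) : bc B h' (bc B h x) = bc B (h'.comp h) x := by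
  rw [← AlgHom.comp_apply]
  congr 1
  ext <;> simp

theorem chB_bc (F : B →ₚₗ[A] C) {T T' : Type u} [CommRing T] [Algebra A T] [CommRing T'] [Algebra A T']
    (h : T →ₐ[A] T') (g : C →ₐ[A] T) (b : T ⊗[A] B) :
    bc B h (chB F g b) = chB F (h.comp g) (bc B h b) := by
  rw [chB, ev_map, chB]
  have h1 : (bc B h).comp ((iL T B).comp g) = (iL T' B).comp (h.comp g) := by ext c; simp
  have h2 : bc B (bc B h) (bc B (iL T B) b - iL (T ⊗[A] B) B b) =
      bc B (iL T' B) (bc B h b) - iL (T' ⊗[A] B) B (bc B h b) := by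
    rw [map_sub, bc_bc, bc_bc]
    have h3 : (bc B h).comp (iL T B) = (iL T' B).comp h := by ext c; simp
    rw [h3]
    simp
  rw [h1, h2]

theorem chB_precomp {B' : Type u} [CommRing B'] [Algebra A B'] (F : B →ₚₗ[A] C) (π : B' →ₐ[A] B)
    {T : Type u} [CommRing T] [Algebra A T] (g : C →ₐ[A] T) (b : T ⊗[A] B') :
    Algebra.TensorProduct.map (AlgHom.id A T) π (chB (PolLaw.precomp F π.toLinearMap) g b) =
      chB F g (Algebra.TensorProduct.map (AlgHom.id A T) π b) := by
  rw [chB, ev_map, ev_precomp, chB]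
  have hl : ∀ (T : Type u) [CommRing T] [Algebra A T] (z : T ⊗[A] B'), π.toLinearMap.lTensor T z =
      Algebra.TensorProduct.map (AlgHom.id A T) π z := by
    intro T _ _ z
    induction z using TensorProduct.induction_on with
    | zero => simp
    | tmul a b => rfl
    | add a b ha hb => simp [ha, hb]
  rw [hl]
  congr 1
  · ext c; simp
  · rw [map_sub, map_sub]
    congr 1
    · simp only [← AlgHom.comp_apply]
      congr 1
      ext <;> simp
    · simp

theorem chB_postcomp {C' : Type u} [CommRing C'] [Algebra A C'] (F : B →ₚₗ[A] C) (f : C →ₐ[A] C')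
    {T : Type u} [CommRing T] [Algebra A T] (g : C' →ₐ[A] T) (b : T ⊗[A] B) :
    chB (PolLaw.postcomp f.toLinearMap F) g b = chB F (g.comp f) b := by
  rw [chB, ev_postcomp, chB]; rfl

end Def

section Prod

variable {A : Type u} [CommRing A] {B : Type u} [CommRing B] [Algebra A B]
  {C : Type u} [CommRing C] [Algebra A C] {d : ℕ}

theorem mulMap_iL {T : Type u} [CommRing T] [Algebra A T] (g : B →ₐ[A] T) (t : T) :
    mulMap g (iL T B t) = t := by simp

/-- Cayley–Hamilton for product laws. -/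
theorem ch_prodMap {κ : Type} [Fintype κ] (φ : κ → (B →ₐ[A] C)) (hd : Fintype.card κ = d)
    {T : Type u} [CommRing T] [Algebra A T] (g : C →ₐ[A] T) (b x w : T ⊗[A] B) :
    ev (PolLaw.MulLaw.prodMap φ d hd).law g (x + w * chB (PolLaw.MulLaw.prodMap φ d hd).law g b) =
      ev (PolLaw.MulLaw.prodMap φ d hd).law g x := by
  rw [ev_prodMap, ev_prodMap]
  refine Finset.prod_congr rfl fun k _ => ?_
  have h0 : mulMap (g.comp (φ k)) (chB (PolLaw.MulLaw.prodMap φ d hd).law g b) = 0 := by
    rw [chB, ev_prodMap, map_prod]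
    refine Finset.prod_eq_zero (Finset.mem_univ k) ?_
    rw [map_sub, AlgHom.comp_assoc]
    have h1 : mulMap ((iL T B).comp (g.comp (φ k))) (bc B (iL T B) b) = iL T B (mulMap (g.comp (φ k)) b) := by
      rw [mulMap_bc, rTensor_eq_bc]
    rw [h1, mulMap_iL, map_sub, mulMap_iL, sub_self]
  rw [map_add, map_mul, h0, mul_zero, add_zero]

end Prod

section Main

variable {A : Type u} [CommRing A] {B : Type u} [CommRing B] [Algebra A B]
  {C : Type u} [CommRing C] [Algebra A C] {d : ℕ}

/-- Cayley–Hamilton for the universal law of a free algebra, over `T ⊗ TS`. -/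
theorem ch_uLaw {ι : Type u} (b : Module.Basis ι A B) (d : ℕ) (T : Type u) [CommRing T] [Algebra A T]
    (y x w : (T ⊗[A] SymTen.TS A B d) ⊗[A] B) :
    ev (uLaw b d).law (Algebra.TensorProduct.includeRight : SymTen.TS A B d →ₐ[A] T ⊗[A] SymTen.TS A B d)
      (x + w * chB (uLaw b d).law Algebra.TensorProduct.includeRight y) =
    ev (uLaw b d).law Algebra.TensorProduct.includeRight x := by
  let j : T ⊗[A] SymTen.TS A B d →ₐ[A] T ⊗[A] (⨂[A] _ : Fin d, B) :=
    Algebra.TensorProduct.map (AlgHom.id A T) (SymTen.TS A B d).val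
  have hj : Function.Injective j := by
    have : (j : T ⊗[A] SymTen.TS A B d → T ⊗[A] (⨂[A] _ : Fin d, B)) =
        (SymTen.TS A B d).val.toLinearMap.lTensor T := by
      funext z
      rw [PolLaw.lTensor_algHom_apply]; rfl
    rw [this]
    exact lTensor_val_injective b d T
  have hjg : j.comp (Algebra.TensorProduct.includeRight : SymTen.TS A B d →ₐ[A] T ⊗[A] SymTen.TS A B d) =
      (Algebra.TensorProduct.includeRight : (⨂[A] _ : Fin d, B) →ₐ[A] T ⊗[A] (⨂[A] _ : Fin d, B)).comp
        (SymTen.TS A B d).val := by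
    ext z; simp [j]
  apply hj
  rw [ev_map, ev_map, map_add, map_mul, chB_bc, hjg, ← chB_postcomp, ← ev_postcomp, ← ev_postcomp, uLaw_val]
  exact ch_prodMap _ _ _ _ _ _

/-- **Cayley–Hamilton**: the element `χ_y(y)` lies in the kernel of the base-changed law, for `y ∈ T ⊗ B`. -/
theorem cayleyHamilton (F : PolLaw.MulLaw A B C d) {T : Type u} [CommRing T] [Algebra A T] (g : C →ₐ[A] T)
    (y x w : T ⊗[A] B) : ev F.law g (x + w * chB F.law g y) = ev F.law g x := by
  let P := MvPolynomial B A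
  let π : P →ₐ[A] B := MvPolynomial.aeval id
  have hπ : Function.Surjective π := fun b => ⟨MvPolynomial.X b, MvPolynomial.aeval_X id b⟩
  let bP := MvPolynomial.basisMonomials B A
  let F' : PolLaw.MulLaw A P C d := F.precomp π
  let f := liftAlg bP F'
  have hf : PolLaw.postcomp f.toLinearMap (uLaw bP d).law = F'.law := postcomp_liftAlg bP F'
  have hπT : ∀ z : T ⊗[A] B, ∃ z' : T ⊗[A] P, Algebra.TensorProduct.map (AlgHom.id A T) π z' = z := by
    intro z
    obtain ⟨z', hz'⟩ := LinearMap.lTensor_surjective T (g := π.toLinearMap) hπ z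
    refine ⟨z', ?_⟩
    rw [← hz', PolLaw.lTensor_algHom_apply]; rfl
  obtain ⟨y, rfl⟩ := hπT y
  obtain ⟨x, rfl⟩ := hπT x
  obtain ⟨w, rfl⟩ := hπT w
  have hev : ∀ z : T ⊗[A] P, ev F.law g (Algebra.TensorProduct.map (AlgHom.id A T) π z) = ev F'.law g z := by
    intro z
    change _ = ev (PolLaw.precomp F.law π.toLinearMap) g z
    rw [ev_precomp, PolLaw.lTensor_algHom_apply]; rfl
  rw [← chB_precomp, ← map_mul, ← map_add, hev, hev]
  change ev F'.law g (x + w * chB F'.law g y) = _
  rw [← hf, ev_postcomp, ev_postcomp, chB_postcomp]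
  let T₁ := T ⊗[A] SymTen.TS A P d
  let g₁ : SymTen.TS A P d →ₐ[A] T₁ := Algebra.TensorProduct.includeRight
  let m : T₁ →ₐ[A] T := mulMap (g.comp f)
  let iT : T →ₐ[A] T₁ := Algebra.TensorProduct.includeLeft
  have hm1 : m.comp g₁ = g.comp f := AlgHom.ext fun z => (mulMap_tmul (g.comp f) 1 z).trans (one_mul _)
  have hm2 : ∀ z : T ⊗[A] P, bc P m (bc P iT z) = z := by
    intro z
    rw [bc_bc]
    have : m.comp iT = AlgHom.id A T := AlgHom.ext fun z =>
      (mulMap_tmul (g.comp f) z 1).trans (by rw [map_one, mul_one]; rfl)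
    rw [this]
    simp
  rw [← hm1, ← hm2 x, ← hm2 w, ← hm2 y, ← chB_bc, ← map_mul, ← map_add, ← ev_map, ← ev_map, ch_uLaw]

/-- The Cayley–Hamilton element of `b ∈ B` lies in the kernel. -/
theorem chB_mem_ker (F : PolLaw.MulLaw A B A d) (y : B) :
    TensorProduct.lid A B (chB F.law (AlgHom.id A A) (1 ⊗ₜ[A] y)) ∈ PolLaw.ker F.law := by
  rw [mem_ker_iff_ev]
  intro T _ _ g x w
  have h : (1 : T) ⊗ₜ[A] (TensorProduct.lid A B (chB F.law (AlgHom.id A A) (1 ⊗ₜ[A] y))) =
      chB F.law g (1 ⊗ₜ[A] y) := by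
    have h1 : chB F.law g (1 ⊗ₜ[A] y) = bc B g (chB F.law (AlgHom.id A A) (1 ⊗ₜ[A] y)) := by
      rw [chB_bc, AlgHom.comp_id]
      simp
    rw [h1]
    generalize chB F.law (AlgHom.id A A) (1 ⊗ₜ[A] y) = z
    induction z using TensorProduct.induction_on with
    | zero => simp
    | tmul a b =>
        rw [TensorProduct.lid_tmul, Algebra.TensorProduct.map_tmul, TensorProduct.tmul_smul,
          TensorProduct.smul_tmul', AlgHom.id_apply, ← map_one g, ← map_smul, smul_eq_mul, mul_one]
    | add a b ha hb => rw [map_add, map_add, TensorProduct.tmul_add, ha, hb]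
  rw [h]
  exact cayleyHamilton F g _ _ _

end Main

end K757.CH
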