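import Groth.Agent.ZeroCyc.K757.CharPoly

/-!
# Kernel of a push-forward
-/

set_option autoImplicit false
universe u
open scoped TensorProduct
open K757.Ev K757.Coeff K757.CH K757.Factor K757.Kr K757.CharPoly

namespace K757.Push

variable {A : Type u} [CommRing A] {B : Type u} [CommRing B] [Algebra A B]
    {B' : Type u} [CommRing B'] [Algebra A B'] {C : Type u} [CommRing C] [Algebra A C] {d : ℕ}

theorem ev_precomp_alg (F : B →ₚₗ[A] C) (φ : B' →ₐ[A] B) {T : Type u} [CommRing T] [Algebra A T] (g : C →ₐ[A] T)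
    (x : T ⊗[A] B') : ev (PolLaw.precomp F φ.toLinearMap) g x = ev F g (Algebra.TensorProduct.map (AlgHom.id A T) φ x) := by
  rw [ev_precomp, PolLaw.lTensor_algHom_apply]; rfl

theorem comap_le_ker (F : PolLaw.MulLaw A B C d) (φ : B' →ₐ[A] B) :
    (PolLaw.ker F.law).comap φ ≤ PolLaw.ker (F.precomp φ).law := by
  intro b hb
  rw [Ideal.mem_comap, mem_ker_iff_ev] at hb
  rw [mem_ker_iff_ev]
  intro T _ _ g x w
  change ev (PolLaw.precomp F.law φ.toLinearMap) g _ = ev (PolLaw.precomp F.law φ.toLinearMap) g _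
  rw [ev_precomp_alg, ev_precomp_alg, map_add, map_mul, Algebra.TensorProduct.map_tmul, map_one]
  exact hb T g _ _

theorem pow_mem_ker (F : PolLaw.MulLaw A B C d) (φ : B' →ₐ[A] B) {b : B'} (hb : b ∈ PolLaw.ker (F.precomp φ).law) :
    (φ b) ^ d ∈ PolLaw.ker F.law := by
  apply mem_ker_of_inKer'
  have h : InKer F.law (AlgHom.id A C) (((1 : C) ⊗ₜ[A] φ b) ^ d) := by
    apply inKer_pow
    rw [mem_ker_iff_ev] at hb
    have h1 := hb (C ⊗[A] B) ((iL C B).comp (AlgHom.id A C)) (-(((1 : C) ⊗ₜ[A] φ b) ⊗ₜ[A] (1 : B'))) 1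
    change ev (PolLaw.precomp F.law φ.toLinearMap) _ _ = ev (PolLaw.precomp F.law φ.toLinearMap) _ _ at h1
    rw [ev_precomp_alg, ev_precomp_alg] at h1
    have e1 : Algebra.TensorProduct.map (AlgHom.id A (C ⊗[A] B)) φ
        (-(((1 : C) ⊗ₜ[A] φ b) ⊗ₜ[A] (1 : B')) + 1 * (1 ⊗ₜ[A] b)) =
        bc B (iL C B) (1 ⊗ₜ[A] φ b) - iL (C ⊗[A] B) B (1 ⊗ₜ[A] φ b) := by
      rw [one_mul, map_add, map_neg, Algebra.TensorProduct.map_tmul, Algebra.TensorProduct.map_tmul,
        Algebra.TensorProduct.map_tmul, map_one, map_one, map_one, sub_eq_add_neg, add_comm]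
      rfl
    have e2 : Algebra.TensorProduct.map (AlgHom.id A (C ⊗[A] B)) φ (-(((1 : C) ⊗ₜ[A] φ b) ⊗ₜ[A] (1 : B'))) =
        - iL (C ⊗[A] B) B (1 ⊗ₜ[A] φ b) := by
      rw [map_neg, Algebra.TensorProduct.map_tmul, map_one]; rfl
    rw [e1, e2] at h1
    exact h1
  rwa [Algebra.TensorProduct.tmul_pow, one_pow] at h

theorem radical_ker_precomp (F : PolLaw.MulLaw A B C d) (φ : B' →ₐ[A] B) :
    (PolLaw.ker (F.precomp φ).law).radical = ((PolLaw.ker F.law).comap φ).radical := by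
  apply le_antisymm
  · rw [← Ideal.radical_idem ((PolLaw.ker F.law).comap φ)]
    apply Ideal.radical_mono
    intro b hb
    refine ⟨d, ?_⟩
    rw [Ideal.mem_comap, map_pow]
    exact pow_mem_ker F φ hb
  · exact Ideal.radical_mono (comap_le_ker F φ)

/-- an element of the kernel: its `d`-th power is (up to sign) its Cayley–Hamilton element. -/
theorem chB_of_mem_ker (F : PolLaw.MulLaw A B C d) {b : B} (hb : b ∈ PolLaw.ker F.law) {T : Type u} [CommRing T]
    [Algebra A T] (g : C →ₐ[A] T) : chB F.law g (1 ⊗ₜ[A] b) = (-1) ^ d * (1 ⊗ₜ[A] b) ^ d :=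
  inKer_pow_of_inKer F g (inKer_of_mem_ker hb)

end K757.Push
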