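import Groth.Agent.ZeroCyc.K757.Homs
import Groth.Agent.ZeroCyc.K757.Push
import Mathlib.RingTheory.FiniteType
import Mathlib.RingTheory.IntegralClosure.IsIntegral.Basic
import Mathlib.RingTheory.Finiteness.Ideal

/-!
# A finitely generated ideal with the same radical as the kernel
-/

set_option autoImplicit false
universe u
open scoped TensorProduct
open K757.Ev K757.Coeff K757.CH K757.Factor K757.Kr K757.CharPoly K757.Homs K757.Push

namespace K757.Fg

section Monic

variable {A : Type u} [CommRing A] {B : Type u} [CommRing B] [Algebra A B] {C : Type u} [CommRing C] [Algebra A C]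
  {d : ℕ}

theorem monic_chi (F : PolLaw.MulLaw A B C d) {T : Type u} [CommRing T] [Algebra A T] (g : C →ₐ[A] T) (y : T ⊗[A] B) :
    (Polynomial.C ((-1) ^ d) * chi F.law g y).Monic := by
  refine Polynomial.monic_of_natDegree_le_of_coeff_eq_one d ?_ ?_
  · refine (Polynomial.natDegree_mul_le).trans ?_
    rw [Polynomial.natDegree_C, zero_add]
    exact natDegree_chi_le g y F.homog
  · rw [Polynomial.coeff_C_mul, coeff_chi g y F.homog F.mult, ← mul_pow, neg_one_mul, neg_neg, one_pow]

/-- if the Cayley–Hamilton element of `y` goes to zero under a `T`-algebra map, the image of `y` is integral over `T`. -/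
theorem isIntegral_of_chB (F : PolLaw.MulLaw A B C d) {T : Type u} [CommRing T] [Algebra A T] (g : C →ₐ[A] T)
    (y : T ⊗[A] B) {R : Type u} [CommRing R] [Algebra T R] (f : T ⊗[A] B →ₐ[T] R) (h : f (chB F.law g y) = 0) :
    IsIntegral T (f y) := by
  refine ⟨Polynomial.C ((-1) ^ d) * chi F.law g y, monic_chi F g y, ?_⟩
  rw [Polynomial.eval₂_mul]
  have h1 : Polynomial.eval₂ (algebraMap T R) (f y) (chi F.law g y) = Polynomial.aeval (f y) (chi F.law g y) := rfl
  rw [h1, Polynomial.aeval_algHom_apply, aeval_chi, h, mul_zero]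

end Monic

section Main

variable {A : Type u} [CommRing A] {B : Type u} [CommRing B] [Algebra A B] {d : ℕ} (F : PolLaw.MulLaw A B A d)

/-- the Cayley–Hamilton element of `b`, in `B`. -/
noncomputable def ch (b : B) : B := TensorProduct.lid A B (chB F.law (AlgHom.id A A) (1 ⊗ₜ[A] b))

theorem ch_mem (b : B) : ch F b ∈ PolLaw.ker F.law := chB_mem_ker F b

theorem ch_eq_aeval (b : B) : ch F b = Polynomial.aeval b (chi F.law (AlgHom.id A A) (1 ⊗ₜ[A] b)) := by
  rw [ch, ← aeval_chi]
  change (Algebra.TensorProduct.lid A B) _ = _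
  rw [← AlgEquiv.coe_toAlgHom, ← Polynomial.aeval_algHom_apply]
  simp

theorem ch_of_mem_ker {b : B} (hb : b ∈ PolLaw.ker F.law) : ch F b = (-1) ^ d * b ^ d := by
  rw [ch, chB_of_mem_ker F hb]
  change (Algebra.TensorProduct.lid A B) _ = _
  rw [map_mul, map_pow, map_pow, map_neg, map_one, Algebra.TensorProduct.lid_tmul, one_smul]

/-- `ch` of a combination, through the generic element. -/
theorem exists_generic {ι : Type u} [Fintype ι] (e : ι → B) :
    ∃ K : Finset B, (∀ z ∈ K, z ∈ PolLaw.ker F.law) ∧ ∀ a : ι → A, ch F (∑ i, a i • e i) ∈ Ideal.span (K : Set B) := by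
  classical
  let y : MvPolynomial ι A ⊗[A] B := ∑ i, (MvPolynomial.X i : MvPolynomial ι A) ⊗ₜ[A] e i
  obtain ⟨Γ, z, hz, hzk⟩ := exists_coeff_mem_ker F (inKer_chB F (cMap A A ι) y)
  refine ⟨Γ.image z, ?_, fun a => ?_⟩
  · intro x hx
    rw [Finset.mem_image] at hx
    obtain ⟨γ, hγ, rfl⟩ := hx
    exact hzk γ hγ
  · let k : MvPolynomial ι A →ₐ[A] A := evalHom (AlgHom.id A A) a
    have hk : k.comp (cMap A A ι) = AlgHom.id A A := evalHom_comp_cMap _ _
    have h1 : bc B k y = 1 ⊗ₜ[A] ∑ i, a i • e i := by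
      simp only [y, map_sum, Algebra.TensorProduct.map_tmul, TensorProduct.tmul_sum, AlgHom.id_apply]
      refine Finset.sum_congr rfl fun i _ => ?_
      rw [TensorProduct.tmul_smul, TensorProduct.smul_tmul', smul_eq_mul, mul_one, evalHom_X]
    rw [ch, ← h1]
    have h2 : chB F.law (AlgHom.id A A) (bc B k y) = bc B k (chB F.law (cMap A A ι) y) := by
      rw [chB_bc, hk]
    rw [h2, hz, map_sum, map_sum]
    refine Ideal.sum_mem _ fun γ hγ => ?_
    rw [Algebra.TensorProduct.map_tmul, TensorProduct.lid_tmul, Algebra.smul_def]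
    apply Ideal.mul_mem_left
    apply Ideal.subset_span
    rw [Finset.mem_coe, Finset.mem_image]
    exact ⟨γ, hγ, rfl⟩

theorem main [Algebra.FiniteType A B] :
    ∃ J : Ideal B, J.FG ∧ J ≤ PolLaw.ker F.law ∧ J.radical = (PolLaw.ker F.law).radical := by
  classical
  obtain ⟨s, hs⟩ := Algebra.FiniteType.out (R := A) (A := B)
  let J₀ : Ideal B := Ideal.span (s.image (ch F) : Set B)
  have hJ₀ : J₀ ≤ PolLaw.ker F.law := by
    rw [Ideal.span_le]
    intro x hx
    rw [Finset.mem_coe, Finset.mem_image] at hx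
    obtain ⟨b, -, rfl⟩ := hx
    exact ch_mem F b
  -- the quotient is finite over `A`
  have hfin : Module.Finite A (B ⧸ J₀) := by
    have hint : ∀ x ∈ (s.image (Ideal.Quotient.mkₐ A J₀) : Set (B ⧸ J₀)), IsIntegral A x := by
      intro x hx
      rw [Finset.mem_coe, Finset.mem_image] at hx
      obtain ⟨b, hb, rfl⟩ := hx
      refine ⟨Polynomial.C ((-1) ^ d) * chi F.law (AlgHom.id A A) (1 ⊗ₜ[A] b), monic_chi F _ _, ?_⟩
      rw [Polynomial.eval₂_mul]
      have h1 : Polynomial.eval₂ (algebraMap A (B ⧸ J₀)) (Ideal.Quotient.mkₐ A J₀ b)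
          (chi F.law (AlgHom.id A A) (1 ⊗ₜ[A] b)) = Polynomial.aeval (Ideal.Quotient.mkₐ A J₀ b)
          (chi F.law (AlgHom.id A A) (1 ⊗ₜ[A] b)) := rfl
      rw [h1, Polynomial.aeval_algHom_apply, ← ch_eq_aeval]
      have h2 : Ideal.Quotient.mkₐ A J₀ (ch F b) = 0 := by
        rw [Ideal.Quotient.mkₐ_eq_mk, Ideal.Quotient.eq_zero_iff_mem]
        apply Ideal.subset_span
        rw [Finset.mem_coe, Finset.mem_image]
        exact ⟨b, hb, rfl⟩
      rw [h2, mul_zero]
    have h1 := fg_adjoin_of_finite (Finset.finite_toSet _) hint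
    have h2 : Algebra.adjoin A (s.image (Ideal.Quotient.mkₐ A J₀) : Set (B ⧸ J₀)) = ⊤ := by
      rw [Finset.coe_image, ← AlgHom.map_adjoin, hs, Algebra.map_top, AlgHom.range_eq_top]
      exact Ideal.Quotient.mkₐ_surjective A J₀
    rw [h2, Algebra.top_toSubmodule] at h1
    exact ⟨h1⟩
  obtain ⟨E, hE⟩ := hfin.fg_top
  let ι : Type u := {x // x ∈ E}
  choose e he using fun i : ι => Ideal.Quotient.mkₐ_surjective A J₀ i.1
  obtain ⟨K, hK, hKa⟩ := exists_generic F e
  refine ⟨J₀ ⊔ Ideal.span (K : Set B), ?_, ?_, ?_⟩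
  · exact Submodule.FG.sup ⟨_, rfl⟩ ⟨_, rfl⟩
  · exact sup_le hJ₀ (Ideal.span_le.mpr hK)
  · apply le_antisymm
    · exact Ideal.radical_mono (sup_le hJ₀ (Ideal.span_le.mpr hK))
    · rw [← Ideal.radical_idem (J₀ ⊔ Ideal.span (K : Set B))]
      apply Ideal.radical_mono
      intro b hb
      have h1 : Ideal.Quotient.mkₐ A J₀ b ∈ Submodule.span A (Set.range (fun i : ι => (i.1 : B ⧸ J₀))) := by
        rw [Subtype.range_coe_subtype]
        have : {x | x ∈ E} = (E : Set (B ⧸ J₀)) := rfl
        rw [this, hE]; trivial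
      rw [Submodule.mem_span_range_iff_exists_fun] at h1
      obtain ⟨a, ha⟩ := h1
      let b' := ∑ i, a i • e i
      have hbb' : b - b' ∈ J₀ := by
        rw [← Ideal.Quotient.eq_zero_iff_mem, ← Ideal.Quotient.mkₐ_eq_mk A, map_sub, ← ha, map_sum, sub_eq_zero]
        exact Finset.sum_congr rfl fun i _ => by rw [map_smul, he]
      have hb' : b' ∈ PolLaw.ker F.law := by
        have : b' = b - (b - b') := by ring
        rw [this]
        exact Ideal.sub_mem _ hb (hJ₀ hbb')
      have h2 : b' ^ d ∈ Ideal.span (K : Set B) := by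
        have h3 := hKa a
        change ch F b' ∈ _ at h3
        rw [ch_of_mem_ker F hb'] at h3
        have h4 := Ideal.mul_mem_left _ ((-1) ^ d) h3
        rwa [← mul_assoc, ← mul_pow, neg_one_mul, neg_neg, one_pow, one_mul] at h4
      have h3 : b = (b - b') + b' := by ring
      rw [h3]
      refine Ideal.add_mem _ (Ideal.le_radical (Ideal.mem_sup_left hbb')) ⟨d, Ideal.mem_sup_right h2⟩

end Main

end K757.Fg
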