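import Groth.Agent.ZeroCyc.K757.Fg
import Mathlib.RingTheory.Spectrum.Prime.Basic
import Mathlib.FieldTheory.SeparableDegree
import Mathlib.RingTheory.LocalRing.ResidueField.Ideal
import Mathlib.FieldTheory.IsAlgClosed.AlgebraicClosure
import Mathlib.RingTheory.Ideal.GoingUp

/-!
# The image of a law over a field
-/

set_option autoImplicit false
universe u
open scoped TensorProduct
open K757.Ev K757.Coeff K757.CH K757.Factor K757.Kr K757.CharPoly K757.Homs K757.Push K757.Fg

namespace K757.FieldCase

theorem finite_of_forall_le {X : Type*} {d : ℕ} (h : ∀ (n : ℕ) (f : Fin n → X), Function.Injective f → n ≤ d) :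
    Finite X ∧ Nat.card X ≤ d := by
  have hfin : Finite X := by
    by_contra hinf
    rw [not_finite_iff_infinite] at hinf
    have h1 := h (d + 1) (fun i => Infinite.natEmbedding X i.1) (fun i j hij => by
      apply Fin.ext
      exact (Infinite.natEmbedding X).injective hij)
    omega
  refine ⟨hfin, ?_⟩
  have := Fintype.ofFinite X
  rw [Nat.card_eq_fintype_card]
  exact h _ (Fintype.equivFin X).symm (Fintype.equivFin X).symm.injective

/-- the image of a law is integral. -/
theorem isIntegral_image {A : Type u} [CommRing A] {B : Type u} [CommRing B] [Algebra A B] {d : ℕ}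
    (F : PolLaw.MulLaw A B A d) : Algebra.IsIntegral A (PolLaw.image F.law) := by
  constructor
  intro x
  obtain ⟨b, rfl⟩ := Ideal.Quotient.mkₐ_surjective A (PolLaw.ker F.law) x
  refine ⟨Polynomial.C ((-1) ^ d) * chi F.law (AlgHom.id A A) (1 ⊗ₜ[A] b), monic_chi F _ _, ?_⟩
  rw [Polynomial.eval₂_mul]
  have h1 : Polynomial.eval₂ (algebraMap A (PolLaw.image F.law)) (Ideal.Quotient.mkₐ A (PolLaw.ker F.law) b)
      (chi F.law (AlgHom.id A A) (1 ⊗ₜ[A] b)) = Polynomial.aeval (Ideal.Quotient.mkₐ A (PolLaw.ker F.law) b)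
      (chi F.law (AlgHom.id A A) (1 ⊗ₜ[A] b)) := rfl
  rw [h1, Polynomial.aeval_algHom_apply, ← ch_eq_aeval]
  have h2 : Ideal.Quotient.mkₐ A (PolLaw.ker F.law) (ch F b) = 0 := by
    rw [Ideal.Quotient.mkₐ_eq_mk, Ideal.Quotient.eq_zero_iff_mem]
    exact ch_mem F b
  rw [h2, mul_zero]

variable {k : Type u} [Field k] {B : Type u} [CommRing B] [Algebra k B] {d : ℕ} (F : PolLaw.MulLaw k B k d)

theorem main : Finite (PrimeSpectrum (PolLaw.image F.law)) ∧ Nat.card (PrimeSpectrum (PolLaw.image F.law)) ≤ d ∧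
      ∀ P : PrimeSpectrum (PolLaw.image F.law), P.asIdeal.IsMaximal ∧
        Finite (Field.Emb k P.asIdeal.ResidueField) := by
  have hint := isIntegral_image F
  let q : B →ₐ[k] PolLaw.image F.law := Ideal.Quotient.mkₐ k (PolLaw.ker F.law)
  have hq : Function.Surjective q := Ideal.Quotient.mkₐ_surjective k _
  have hq0 : ∀ b ∈ PolLaw.ker F.law, q b = 0 := fun b hb => Ideal.Quotient.eq_zero_iff_mem.mpr hb
  have hmax : ∀ P : PrimeSpectrum (PolLaw.image F.law), P.asIdeal.IsMaximal := by
    intro P
    apply Ideal.isMaximal_of_isIntegral_of_isMaximal_comap (R := k)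
    have h1 : (P.asIdeal.comap (algebraMap k (PolLaw.image F.law))) = ⊥ := by
      have h2 := Ideal.IsPrime.comap (algebraMap k (PolLaw.image F.law)) (K := P.asIdeal)
      exact (eq_bot_or_eq_top _).resolve_right h2.ne_top
    rw [h1]
    exact Ideal.bot_isMaximal
  have hcard : Finite (PrimeSpectrum (PolLaw.image F.law)) ∧ Nat.card (PrimeSpectrum (PolLaw.image F.law)) ≤ d := by
    apply finite_of_forall_le
    intro n f hf
    -- embed the residue fields in an algebraic closure
    have hσ : ∀ P : PrimeSpectrum (PolLaw.image F.law), ∃ σ : PolLaw.image F.law →ₐ[k] AlgebraicClosure k,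
        RingHom.ker σ = P.asIdeal := by
      intro P
      have := hmax P
      let _ : Field (PolLaw.image F.law ⧸ P.asIdeal) := Ideal.Quotient.field _
      have : Algebra.IsAlgebraic k (PolLaw.image F.law ⧸ P.asIdeal) := inferInstance
      let l : (PolLaw.image F.law ⧸ P.asIdeal) →ₐ[k] AlgebraicClosure k := IsAlgClosed.lift
      refine ⟨l.comp (Ideal.Quotient.mkₐ k P.asIdeal), ?_⟩
      ext x
      rw [RingHom.mem_ker]
      change l (Ideal.Quotient.mk P.asIdeal x) = 0 ↔ _
      rw [map_eq_zero_iff l l.toRingHom.injective, Ideal.Quotient.eq_zero_iff_mem]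
    choose σ hσ using hσ
    refine card_le F (fun i => (σ (f i)).comp q) (fun i j hij => ?_) (fun i b hb => ?_)
    · apply hf
      apply PrimeSpectrum.ext
      rw [← hσ (f i), ← hσ (f j)]
      have : σ (f i) = σ (f j) := by
        ext x
        obtain ⟨b, rfl⟩ := hq x
        exact DFunLike.congr_fun hij b
      rw [this]
    · rw [AlgHom.comp_apply, hq0 b hb, map_zero]
  refine ⟨hcard.1, hcard.2, fun P => ⟨hmax P, ?_⟩⟩
  refine (finite_of_forall_le (X := Field.Emb k P.asIdeal.ResidueField) (d := d) fun n f hf => ?_).1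
  let r : PolLaw.image F.law →ₐ[k] P.asIdeal.ResidueField := IsScalarTower.toAlgHom k _ _
  refine card_le F (fun i => ((f i : P.asIdeal.ResidueField →ₐ[k] AlgebraicClosure P.asIdeal.ResidueField).comp r).comp q)
    (fun i j hij => ?_) (fun i b hb => ?_)
  · apply hf
    have h1 : (f i : P.asIdeal.ResidueField →ₐ[k] AlgebraicClosure P.asIdeal.ResidueField).comp r =
        (f j : P.asIdeal.ResidueField →ₐ[k] AlgebraicClosure P.asIdeal.ResidueField).comp r := by
      ext x
      obtain ⟨b, rfl⟩ := hq x
      exact DFunLike.congr_fun hij b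
    exact Ideal.ResidueField.algHom_ext h1
  · rw [AlgHom.comp_apply, hq0 b hb, map_zero]

end K757.FieldCase
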