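import Groth.Agent.ZeroCyc.K757.Exists
import Mathlib.RingTheory.Finiteness.Basic
import Mathlib.RingTheory.IntegralClosure.IsIntegral.Basic
import Mathlib.RingTheory.IntegralClosure.Algebra.Basic

/-!
# Finiteness and integrality of `Γ^d_A(B)`
-/

set_option autoImplicit false
universe u
open scoped TensorProduct
open K757.Ev K757.Coeff K757.TSFree K757.TSBasis K757.Factor K757.Exists

namespace K757.Fin

variable {A : Type u} [CommRing A] {B : Type u} [CommRing B] [Algebra A B] {C : Type u} [CommRing C] [Algebra A C]
  {d : ℕ}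

theorem cf_congr {M : Type u} [AddCommGroup M] [Module A M] (F : M →ₚₗ[A] C) {ι : Type u} {e e' : ι → M}
    {α : ι →₀ ℕ} (h : ∀ i ∈ α.support, e i = e' i) : cf F e α = cf F e' α := by
  rw [cf, cf, gen, gen]
  congr 2
  exact Finset.sum_congr rfl fun i hi => by rw [h i hi]

theorem one_mem_span {F : B →ₚₗ[A] C} (hF : PolLaw.IsHomog F d)
    (hm : PolLaw.IsMult F) {ι : Type u} {e : ι → B} (he : Submodule.span A (Set.range e) = ⊤) :
    (1 : C) ∈ Submodule.span A (Set.range (cf F e)) := by
  have h := coeff_mem_span hF he (κ := PUnit.{u+1}) (1 : MvPolynomial PUnit.{u+1} A ⊗[A] B) 0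
  rw [rTensor_eq_bc, map_one, ev_one hm, MvPolynomial.coeff_zero_one] at h
  exact h

/-- the coefficients of a homogeneous law on a finite family form a finite set. -/
theorem fg_span_cf {M : Type u} [AddCommGroup M] [Module A M] {F : M →ₚₗ[A] C} (hF : PolLaw.IsHomog F d)
    {ι : Type u} [Finite ι] (e : ι → M) : (Submodule.span A (Set.range (cf F e))).FG := by
  classical
  have := Fintype.ofFinite ι
  refine ⟨((Finset.univ : Finset ι).finsuppAntidiag d).image (cf F e), le_antisymm ?_ ?_⟩
  · apply Submodule.span_mono
    intro x hx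
    rw [Finset.mem_coe, Finset.mem_image] at hx
    obtain ⟨α, -, rfl⟩ := hx
    exact ⟨α, rfl⟩
  · rw [Submodule.span_le]
    rintro _ ⟨α, rfl⟩
    by_cases hα : α.degree = d
    · apply Submodule.subset_span
      rw [Finset.mem_coe, Finset.mem_image]
      exact ⟨α, Finset.mem_finsuppAntidiag'.mpr ⟨hα, Finset.subset_univ _⟩, rfl⟩
    · rw [cf_eq_zero hF e hα]
      exact Submodule.zero_mem _

theorem finite_of_isGammaD {γ : PolLaw.MulLaw A B C d} (hγ : PolLaw.IsGammaD γ) [Module.Finite A B] :
    Module.Finite A C := by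
  obtain ⟨s, hs⟩ := Module.Finite.fg_top (R := A) (M := B)
  have he : Submodule.span A (Set.range (Subtype.val : {x // x ∈ s} → B)) = ⊤ := by
    rw [Subtype.range_coe_subtype]
    exact hs
  constructor
  rw [← span_cf hγ he]
  exact fg_span_cf γ.homog _

/-- for `B` finite over `A`, coefficients of multiplicative laws are integral. -/
theorem isIntegral_cf_of_finite [Module.Finite A B] (F : PolLaw.MulLaw A B C d) {ι : Type u} (e : ι → B) (α : ι →₀ ℕ) :
    IsIntegral A (cf F.law e α) := by
  obtain ⟨s, hs⟩ := Module.Finite.fg_top (R := A) (M := B)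
  have he : Submodule.span A (Set.range (Subtype.val : {x // x ∈ s} → B)) = ⊤ := by
    rw [Subtype.range_coe_subtype]
    exact hs
  let N : Submodule A C := Submodule.span A (Set.range (cf F.law (Subtype.val : {x // x ∈ s} → B)))
  have hmul : ∀ x ∈ N, ∀ y ∈ N, x * y ∈ N := by
    intro x hx y hy
    induction hx using Submodule.span_induction with
    | zero => rw [zero_mul]; exact Submodule.zero_mem _
    | add x x' _ _ hx hx' => rw [add_mul]; exact Submodule.add_mem _ hx hx'
    | smul a x _ hx => rw [smul_mul_assoc]; exact Submodule.smul_mem _ _ hx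
    | mem x hx =>
      obtain ⟨α, rfl⟩ := hx
      induction hy using Submodule.span_induction with
      | zero => rw [mul_zero]; exact Submodule.zero_mem _
      | add x x' _ _ hx hx' => rw [mul_add]; exact Submodule.add_mem _ hx hx'
      | smul a x _ hx => rw [mul_smul_comm]; exact Submodule.smul_mem _ _ hx
      | mem y hy =>
        obtain ⟨β, rfl⟩ := hy
        exact cf_mul_mem_span F.homog F.mult he α β
  let S : Subalgebra A C := N.toSubalgebra (one_mem_span F.homog F.mult he) (fun x y hx hy => hmul x hx y hy)
  have hS : (Subalgebra.toSubmodule S).FG := by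
    have : Subalgebra.toSubmodule S = N := by ext; rfl
    rw [this]
    exact fg_span_cf F.homog _
  exact IsIntegral.of_mem_of_fg S hS _ (cf_mem_span F.homog he e α)

/-- for `B` integral over `A`, coefficients of multiplicative laws are integral. -/
theorem isIntegral_cf [Algebra.IsIntegral A B] (F : PolLaw.MulLaw A B C d) {ι : Type u} (e : ι → B) (α : ι →₀ ℕ) :
    IsIntegral A (cf F.law e α) := by
  classical
  let B₀ : Subalgebra A B := Algebra.adjoin A (α.support.image e : Set B)
  have hfin : Module.Finite A B₀ := by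
    have h : (Subalgebra.toSubmodule B₀).FG :=
      fg_adjoin_of_finite (Finset.finite_toSet _) fun x _ => Algebra.IsIntegral.isIntegral x
    exact Module.Finite.of_fg h
  let e₀ : ι → B₀ := fun i => if h : e i ∈ B₀ then ⟨e i, h⟩ else 0
  have h1 : cf F.law e α = cf (F.precomp B₀.val).law e₀ α := by
    change _ = cf (PolLaw.precomp F.law B₀.val.toLinearMap) e₀ α
    rw [cf_precomp]
    apply cf_congr
    intro i hi
    have : e i ∈ B₀ := Algebra.subset_adjoin (by
      rw [Finset.mem_coe, Finset.mem_image]; exact ⟨i, hi, rfl⟩)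
    simp only [e₀, dif_pos this]
    rfl
  rw [h1]
  exact isIntegral_cf_of_finite _ _ _

theorem isIntegral_of_isGammaD {γ : PolLaw.MulLaw A B C d} (hγ : PolLaw.IsGammaD γ) [Algebra.IsIntegral A B] :
    Algebra.IsIntegral A C := by
  constructor
  intro c
  have hc : c ∈ Submodule.span A (Set.range (cf γ.law (id : B → B))) := by
    rw [span_cf hγ (by simp)]; trivial
  induction hc using Submodule.span_induction with
  | zero => exact isIntegral_zero
  | add x y _ _ hx hy => exact hx.add hy
  | smul a x _ hx => exact hx.smul a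
  | mem x hx =>
    obtain ⟨α, rfl⟩ := hx
    exact isIntegral_cf γ _ _

theorem surjective_of_isGammaD {B' : Type u} [CommRing B'] [Algebra A B'] {C' : Type u} [CommRing C'] [Algebra A C']
    (γ : PolLaw.MulLaw A B C d) {γ' : PolLaw.MulLaw A B' C' d}
    (hγ' : PolLaw.IsGammaD γ') (π : B →ₐ[A] B') (hπ : Function.Surjective π) (φ : C →ₐ[A] C')
    (hφ : PolLaw.postcomp φ.toLinearMap γ.law = (γ'.precomp π).law) : Function.Surjective φ := by
  have he : Submodule.span A (Set.range (π : B → B')) = ⊤ := by
    rw [Function.Surjective.range_eq hπ, Submodule.span_univ]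
  have h1 : cf γ'.law (π : B → B') = φ.toLinearMap ∘ cf γ.law (id : B → B) := by
    funext α
    rw [Function.comp_apply, ← cf_postcomp γ.homog, hφ]
    exact (cf_precomp γ'.law π.toLinearMap id α).symm
  have h2 := span_cf hγ' he
  rw [h1, Set.range_comp, ← Submodule.map_span] at h2
  have h3 : LinearMap.range φ.toLinearMap = ⊤ := by
    rw [eq_top_iff, ← h2]
    exact LinearMap.map_le_range
  exact LinearMap.range_eq_top.mp h3

end K757.Fin
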