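import Groth.Agent.ZeroCyc.K757.Fg
import Groth.Agent.ZeroCyc.K757.Fin
import Mathlib.Algebra.Polynomial.Lifts
import Mathlib.RingTheory.FiniteType
import Mathlib.RingTheory.Finiteness.Finsupp

/-!
# `Γ^d_A(B)` for `B` of finite type
-/

set_option autoImplicit false
universe u
open scoped TensorProduct
open K757.Ev K757.Coeff K757.CH K757.Factor K757.Kr K757.CharPoly K757.Homs K757.Push K757.Exists K757.Fin K757.Fg

namespace K757.SpanFin

variable {A : Type u} [CommRing A] {B : Type u} [CommRing B] [Algebra A B] {C : Type u} [CommRing C] [Algebra A C]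
  {d : ℕ}

/-- If every element of `B` is, modulo the kernel over `C`, a combination of the `m j` with coefficients in the
subring `R₀` of `C`, then all coefficients of the law are `R₀`-combinations of the coefficients on the family `m`. -/
theorem cf_mem_of_span (F : PolLaw.MulLaw A B C d) (R₀ : Subalgebra A C) {μ : Type u} [Fintype μ] (m : μ → B)
    (h : ∀ b : B, ∃ r : μ → R₀, InKer F.law (AlgHom.id A C) (1 ⊗ₜ[A] b - ∑ j, (r j : C) ⊗ₜ[A] m j))
    {ι : Type u} (e : ι → B) (α : ι →₀ ℕ) :
    cf F.law e α ∈ Submodule.span R₀ (Set.range (cf F.law m)) := by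
  classical
  choose r hr using h
  -- the substituted element
  have h1 : InKer F.law ((cMap A C ι).comp (AlgHom.id A C))
      (∑ i ∈ α.support, (MvPolynomial.X i : MvPolynomial ι C) ⊗ₜ[A] e i -
        ∑ j, (∑ i ∈ α.support, MvPolynomial.X i * MvPolynomial.C ((r (e i) j : C)) : MvPolynomial ι C) ⊗ₜ[A] m j) := by
    have h2 : (∑ i ∈ α.support, (MvPolynomial.X i : MvPolynomial ι C) ⊗ₜ[A] e i -
        ∑ j, (∑ i ∈ α.support, MvPolynomial.X i * MvPolynomial.C ((r (e i) j : C)) : MvPolynomial ι C) ⊗ₜ[A] m j) =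
        ∑ i ∈ α.support, ((MvPolynomial.X i : MvPolynomial ι C) ⊗ₜ[A] (1 : B)) *
          bc B (cMap A C ι) (1 ⊗ₜ[A] e i - ∑ j, (r (e i) j : C) ⊗ₜ[A] m j) := by
      simp only [map_sub, map_sum, Algebra.TensorProduct.map_tmul, map_one, AlgHom.id_apply, cMap_apply, mul_sub,
        Algebra.TensorProduct.tmul_mul_tmul, mul_one, one_mul, Finset.sum_sub_distrib, Finset.mul_sum,
        TensorProduct.sum_tmul]
      congr 1
      exact Finset.sum_comm
    rw [h2]
    have h3 : ∀ s : Finset ι, InKer F.law ((cMap A C ι).comp (AlgHom.id A C))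
        (∑ i ∈ s, ((MvPolynomial.X i : MvPolynomial ι C) ⊗ₜ[A] (1 : B)) *
          bc B (cMap A C ι) (1 ⊗ₜ[A] e i - ∑ j, (r (e i) j : C) ⊗ₜ[A] m j)) := by
      intro s
      induction s using Finset.induction_on with
      | empty => rw [Finset.sum_empty]; exact InKer.zero
      | insert i s hi ih =>
        rw [Finset.sum_insert hi]
        exact (((hr (e i)).bc (cMap A C ι)).mul_left _).add ih
    exact h3 _
  rw [AlgHom.comp_id] at h1
  rw [cf, gen, ev_eq_of_sub_mem h1, ev_sum_eq F.homog, MvPolynomial.coeff_sum]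
  refine Submodule.sum_mem _ fun β _ => ?_
  rw [cMap_apply, MvPolynomial.coeff_C_mul]
  -- the polynomial has coefficients in `R₀`
  let q : MvPolynomial ι R₀ := β.prod fun j n =>
    (∑ i ∈ α.support, MvPolynomial.X i * MvPolynomial.C (r (e i) j) : MvPolynomial ι R₀) ^ n
  have hq : (β.prod fun j n => (∑ i ∈ α.support, MvPolynomial.X i * MvPolynomial.C ((r (e i) j : C)) :
      MvPolynomial ι C) ^ n) = MvPolynomial.map (algebraMap R₀ C) q := by
    simp only [q, Finsupp.prod, map_prod, map_pow, map_sum, map_mul, MvPolynomial.map_X, MvPolynomial.map_C]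
    rfl
  rw [hq, MvPolynomial.coeff_map, mul_comm, ← Algebra.smul_def]
  exact Submodule.smul_mem _ _ (Submodule.subset_span ⟨β, rfl⟩)

/-- the coefficients on a finite family, over a subring. -/
theorem fg_span_cf' (F : PolLaw.MulLaw A B C d) (R₀ : Subalgebra A C) {μ : Type u} [Fintype μ] (m : μ → B) :
    (Submodule.span R₀ (Set.range (cf F.law m))).FG := by
  classical
  refine ⟨((Finset.univ : Finset μ).finsuppAntidiag d).image (cf F.law m), le_antisymm ?_ ?_⟩
  · apply Submodule.span_mono
    intro x hx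
    rw [Finset.mem_coe, Finset.mem_image] at hx
    obtain ⟨α, -, rfl⟩ := hx
    exact ⟨α, rfl⟩
  · rw [Submodule.span_le]
    rintro _ ⟨α, rfl⟩
    by_cases hα : α.degree = d
    · apply Submodule.subset_span
      rw [Finset.mem_coe, Finset.mem_image]
      exact ⟨α, Finset.mem_finsuppAntidiag'.mpr ⟨hα, Finset.subset_univ _⟩, rfl⟩
    · rw [cf_eq_zero F.homog m hα]
      exact Submodule.zero_mem _

/-- For `B` of finite type: a finite family `m` in `B` and a finitely generated subring `R₀` of `C` such that every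
element of `B` is an `R₀`-combination of the `m j` modulo the kernel over `C`. -/
theorem exists_family (F : PolLaw.MulLaw A B C d) [Algebra.FiniteType A B] :
    ∃ (R₀ : Subalgebra A C) (μ : Type u) (_ : Fintype μ) (m : μ → B), R₀.FG ∧
      ∀ b : B, ∃ r : μ → R₀, InKer F.law (AlgHom.id A C) (1 ⊗ₜ[A] b - ∑ j, (r j : C) ⊗ₜ[A] m j) := by
  classical
  obtain ⟨s, hs⟩ := Algebra.FiniteType.out (R := A) (A := B)
  let p : B → Polynomial C := fun b => Polynomial.C ((-1) ^ d) * chi F.law (AlgHom.id A C) (1 ⊗ₜ[A] b)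
  let cs : Finset C := s.biUnion fun b => (p b).coeffs
  let R₀ : Subalgebra A C := Algebra.adjoin A (cs : Set C)
  let I : Ideal (C ⊗[A] B) := kerI F.law (AlgHom.id A C)
  let Q : Type u := (C ⊗[A] B) ⧸ I
  let q : C ⊗[A] B →ₐ[C] Q := Ideal.Quotient.mkₐ C I
  let qB : B →ₐ[A] Q := (q.restrictScalars A).comp Algebra.TensorProduct.includeRight
  have hq0 : ∀ z : C ⊗[A] B, q z = 0 ↔ InKer F.law (AlgHom.id A C) z := fun z => by
    rw [← mem_kerI]; exact Ideal.Quotient.eq_zero_iff_mem
  -- generators are integral over `R₀`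
  have hint : ∀ x ∈ ((s.image qB : Finset Q) : Set Q), IsIntegral R₀ x := by
    intro x hx
    rw [Finset.mem_coe, Finset.mem_image] at hx
    obtain ⟨b, hb, rfl⟩ := hx
    have hlift : p b ∈ Polynomial.lifts (algebraMap R₀ C) := by
      rw [Polynomial.lifts_iff_coeff_lifts]
      intro n
      by_cases hn : (p b).coeff n = 0
      · rw [hn]; exact ⟨0, map_zero _⟩
      · refine ⟨⟨(p b).coeff n, Algebra.subset_adjoin ?_⟩, rfl⟩
        rw [Finset.mem_coe, Finset.mem_biUnion]
        exact ⟨b, hb, Polynomial.coeff_mem_coeffs hn⟩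
    obtain ⟨p₀, hp₀, -, hp₀m⟩ := Polynomial.lifts_and_natDegree_eq_and_monic hlift (monic_chi F _ _)
    refine ⟨p₀, hp₀m, ?_⟩
    have h1 : Polynomial.eval₂ (algebraMap R₀ Q) (qB b) p₀ = Polynomial.aeval (qB b) (p b) := by
      rw [← hp₀, Polynomial.aeval_def, Polynomial.eval₂_map]
      rfl
    rw [h1]
    change Polynomial.aeval (q (1 ⊗ₜ[A] b)) (p b) = 0
    rw [Polynomial.aeval_algHom_apply, hq0]
    simp only [p, map_mul, aeval_chi]
    exact (inKer_chB F _ _).mul_left _
  have hfg := fg_adjoin_of_finite (Finset.finite_toSet _) hint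
  -- the subalgebra they generate is the `R₀`-span of the image of `B`
  have hle : (Algebra.adjoin A ((s.image qB : Finset Q) : Set Q)) = qB.range := by
    rw [Finset.coe_image, ← AlgHom.map_adjoin, hs, Algebra.map_top]
  have hspan : Subalgebra.toSubmodule (Algebra.adjoin R₀ ((s.image qB : Finset Q) : Set Q)) =
      Submodule.span R₀ (Set.range qB) := by
    apply le_antisymm
    · rw [Algebra.adjoin_eq_span, Submodule.span_le]
      intro x hx
      apply Submodule.subset_span
      have h1 : Submonoid.closure ((s.image qB : Finset Q) : Set Q) ≤ MonoidHom.mrange (qB : B →* Q) := by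
        rw [Submonoid.closure_le]
        intro y hy
        rw [Finset.mem_coe, Finset.mem_image] at hy
        obtain ⟨b, -, rfl⟩ := hy
        exact ⟨b, rfl⟩
      exact h1 hx
    · rw [Submodule.span_le]
      rintro _ ⟨b, rfl⟩
      have h1 : qB b ∈ Algebra.adjoin A ((s.image qB : Finset Q) : Set Q) := by
        rw [hle]; exact ⟨b, rfl⟩
      have h2 : Algebra.adjoin A ((s.image qB : Finset Q) : Set Q) ≤
          (Algebra.adjoin R₀ ((s.image qB : Finset Q) : Set Q)).restrictScalars A := by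
        rw [Algebra.adjoin_le_iff]
        exact Algebra.subset_adjoin (R := R₀)
      exact h2 h1
  rw [hspan] at hfg
  obtain ⟨E, hE, hE'⟩ := Submodule.fg_span_iff_fg_span_finset_subset _ |>.mp hfg
  choose m hm using fun j : {x // x ∈ E} => hE j.2
  refine ⟨R₀, {x // x ∈ E}, inferInstance, m, ⟨cs, rfl⟩, fun b => ?_⟩
  have hb : qB b ∈ Submodule.span R₀ (Set.range (Subtype.val : {x // x ∈ E} → Q)) := by
    rw [Subtype.range_coe_subtype]
    have : {x | x ∈ E} = (E : Set Q) := rfl
    rw [this, ← hE']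
    exact Submodule.subset_span ⟨b, rfl⟩
  rw [Submodule.mem_span_range_iff_exists_fun] at hb
  obtain ⟨r, hr⟩ := hb
  refine ⟨r, ?_⟩
  rw [← hq0, map_sub, map_sum, sub_eq_zero]
  have h1 : qB b = q (1 ⊗ₜ[A] b) := rfl
  rw [← h1, ← hr]
  refine Finset.sum_congr rfl fun j _ => ?_
  rw [← hm j]
  have h2 : ((r j : C) ⊗ₜ[A] m j : C ⊗[A] B) = (r j : C) • (1 ⊗ₜ[A] m j) := by
    rw [TensorProduct.smul_tmul', smul_eq_mul, mul_one]
  rw [h2, map_smul]
  rfl

/-- **`Γ^d_A(B)` is of finite type for `B` of finite type.** -/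
theorem finiteType {γ : PolLaw.MulLaw A B C d} (hγ : PolLaw.IsGammaD γ) [Algebra.FiniteType A B] :
    Algebra.FiniteType A C := by
  obtain ⟨R₀, μ, _, m, hR₀, h⟩ := exists_family γ
  have htop : Submodule.span R₀ (Set.range (cf γ.law m)) = ⊤ := by
    rw [eq_top_iff]
    intro c _
    have hc : c ∈ Submodule.span A (Set.range (cf γ.law (id : B → B))) := by
      rw [span_cf hγ (by simp)]; trivial
    have h1 : Submodule.span A (Set.range (cf γ.law (id : B → B))) ≤
        (Submodule.span R₀ (Set.range (cf γ.law m))).restrictScalars A := by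
      rw [Submodule.span_le]
      rintro _ ⟨α, rfl⟩
      exact cf_mem_of_span γ R₀ m h _ _
    exact h1 hc
  have hfin : Module.Finite R₀ C := ⟨by rw [← htop]; exact fg_span_cf' γ R₀ m⟩
  have h1 : Algebra.FiniteType A R₀ := (Subalgebra.fg_iff_finiteType R₀).mp hR₀
  have h2 : Algebra.FiniteType R₀ C := inferInstance
  exact Algebra.FiniteType.trans h1 h2

end K757.SpanFin
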