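import Groth.Agent.ZeroCyc.K757.Exists
import Mathlib.RingTheory.TensorProduct.Basic

/-!
# Base change of laws and of `Γ^d_A(B)`
-/

set_option autoImplicit false
set_option linter.style.haveILetI false
universe u
open scoped TensorProduct
open K757.Ev K757.Coeff K757.Factor K757.Exists

namespace K757.BaseChange

variable {A : Type u} [CommRing A] {B : Type u} [CommRing B] [Algebra A B]

/-- `S ⊗[A'] (A' ⊗[A] B) ≃ S ⊗[A] B`. -/
noncomputable abbrev can (A : Type u) [CommRing A] (B : Type u) [CommRing B] [Algebra A B]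
    (A' : Type u) [CommRing A'] [Algebra A A']
    (S : Type u) [CommSemiring S] [Algebra A S] [Algebra A' S] [IsScalarTower A A' S] :
    S ⊗[A'] (A' ⊗[A] B) ≃ₐ[A'] S ⊗[A] B :=
  Algebra.TensorProduct.cancelBaseChange A A' A' S B

theorem can_smul (A' : Type u) [CommRing A'] [Algebra A A']
    (S : Type u) [CommSemiring S] [Algebra A S] [Algebra A' S] [IsScalarTower A A' S]
    (s : S) (z : S ⊗[A'] (A' ⊗[A] B)) :
    can A B A' S (s • z) = s • can A B A' S z := by
  induction z using TensorProduct.induction_on with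
  | zero => simp
  | add x y hx hy => rw [smul_add, map_add, map_add, smul_add, hx, hy]
  | tmul t b' =>
    induction b' using TensorProduct.induction_on with
    | zero => simp
    | add x y hx hy => rw [TensorProduct.tmul_add, smul_add, map_add, map_add, smul_add, hx, hy]
    | tmul a b => simp [TensorProduct.smul_tmul']

theorem can_bc (A' : Type u) [CommRing A'] [Algebra A A']
    {S S' : Type u} [CommSemiring S] [Algebra A S] [Algebra A' S] [IsScalarTower A A' S]
    [CommSemiring S'] [Algebra A S'] [Algebra A' S'] [IsScalarTower A A' S']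
    (φ : S →ₐ[A'] S') (z : S ⊗[A'] (A' ⊗[A] B)) :
    can A B A' S' (bc (A' ⊗[A] B) φ z) = bc B (φ.restrictScalars A) (can A B A' S z) := by
  induction z using TensorProduct.induction_on with
  | zero => simp
  | add x y hx hy => rw [map_add, map_add, map_add, map_add, hx, hy]
  | tmul t b' =>
    induction b' using TensorProduct.induction_on with
    | zero => simp
    | add x y hx hy => rw [TensorProduct.tmul_add, map_add, map_add, map_add, map_add, hx, hy]
    | tmul a b => simp

theorem can_symm_bc (A' : Type u) [CommRing A'] [Algebra A A']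
    {S S' : Type u} [CommSemiring S] [Algebra A S] [Algebra A' S] [IsScalarTower A A' S]
    [CommSemiring S'] [Algebra A S'] [Algebra A' S'] [IsScalarTower A A' S']
    (φ : S →ₐ[A'] S') (z : S ⊗[A] B) :
    (can A B A' S').symm (bc B (φ.restrictScalars A) z) = bc (A' ⊗[A] B) φ ((can A B A' S).symm z) := by
  rw [AlgEquiv.symm_apply_eq, can_bc, AlgEquiv.apply_symm_apply]

/-- homogeneity from values. -/
theorem isHomog_of_ev {C : Type u} [CommRing C] [Algebra A C] {F : B →ₚₗ[A] C} {d : ℕ}
    (h : ∀ (T : Type u) [CommSemiring T] [Algebra A T] (g : C →ₐ[A] T) (t : T) (x : T ⊗[A] B),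
      ev F g (t • x) = t ^ d * ev F g x) : PolLaw.IsHomog F d := by
  intro S _ _ s x
  have h1 : (Algebra.TensorProduct.includeLeft : S →ₐ[A] S ⊗[A] C).toLinearMap.rTensor B (s • x) =
      (s ⊗ₜ[A] (1 : C)) • (Algebra.TensorProduct.includeLeft : S →ₐ[A] S ⊗[A] C).toLinearMap.rTensor B x := by
    induction x using TensorProduct.induction_on with
    | zero => simp
    | tmul a b => simp [TensorProduct.smul_tmul']
    | add a b ha hb => simp only [smul_add, map_add, ha, hb]
  rw [toFun'_eq_ev, h1, h, ← toFun'_eq_ev]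
  generalize F.toFun' S x = z
  rw [Algebra.TensorProduct.tmul_pow, one_pow]
  induction z using TensorProduct.induction_on with
  | zero => simp
  | tmul a b => simp [TensorProduct.smul_tmul']
  | add a b ha hb => rw [mul_add, smul_add, ha, hb]

/-- multiplicativity from values. -/
theorem isMult_of_ev {C : Type u} [CommRing C] [Algebra A C] {F : B →ₚₗ[A] C}
    (h1 : ∀ (T : Type u) [CommSemiring T] [Algebra A T] (g : C →ₐ[A] T), ev F g 1 = 1)
    (h2 : ∀ (T : Type u) [CommSemiring T] [Algebra A T] (g : C →ₐ[A] T) (x y : T ⊗[A] B),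
      ev F g (x * y) = ev F g x * ev F g y) : PolLaw.IsMult F := by
  intro S _ _
  refine ⟨?_, fun x y => ?_⟩
  · rw [toFun'_eq_ev, rTensor_eq_bc, map_one, h1]
  · rw [toFun'_eq_ev, toFun'_eq_ev, toFun'_eq_ev, rTensor_eq_bc, rTensor_eq_bc, rTensor_eq_bc, map_mul, h2]

section Ext

variable {A' : Type u} [CommRing A'] [Algebra A A'] {C : Type u} [CommRing C] [Algebra A C] [Algebra A' C]
  [IsScalarTower A A' C]

/-- the `A'`-law `A' ⊗ B → C` extending the `A`-law `B → C`. -/
noncomputable def extLaw (A' : Type u) [CommRing A'] [Algebra A A'] {C : Type u} [CommRing C] [Algebra A C]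
    [Algebra A' C] [IsScalarTower A A' C] (F : B →ₚₗ[A] C) : (A' ⊗[A] B) →ₚₗ[A'] C :=
  ofEv (fun T _ _ g x =>
    letI : Algebra A T := ((algebraMap A' T).comp (algebraMap A A')).toAlgebra
    haveI : IsScalarTower A A' T := IsScalarTower.of_algebraMap_eq' rfl
    ev F (g.restrictScalars A) (can A B A' T x)) (by
    intro T T' _ _ _ _ h g x
    letI i1 : Algebra A T := ((algebraMap A' T).comp (algebraMap A A')).toAlgebra
    letI i2 : Algebra A T' := ((algebraMap A' T').comp (algebraMap A A')).toAlgebra
    haveI i3 : IsScalarTower A A' T := IsScalarTower.of_algebraMap_eq' rfl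
    haveI i4 : IsScalarTower A A' T' := IsScalarTower.of_algebraMap_eq' rfl
    change (h.restrictScalars A) (ev F (g.restrictScalars A) (can A B A' T x)) =
      ev F ((h.comp g).restrictScalars A) (can A B A' T' (h.toLinearMap.rTensor (A' ⊗[A] B) x))
    rw [rTensor_eq_bc, can_bc, ev_map]
    rfl)

theorem ev_extLaw (F : B →ₚₗ[A] C) {T : Type u} [CommSemiring T] [Algebra A T] [Algebra A' T]
    [IsScalarTower A A' T] (g : C →ₐ[A'] T) (x : T ⊗[A'] (A' ⊗[A] B)) :
    ev (extLaw A' F) g x = ev F (g.restrictScalars A) (can A B A' T x) := by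
  have h : ‹Algebra A T› = ((algebraMap A' T).comp (algebraMap A A')).toAlgebra := by
    apply Algebra.algebra_ext
    intro r
    exact IsScalarTower.algebraMap_apply A A' T r
  subst h
  rw [extLaw, ev_ofEv]

/-- value of the restricted law, with explicit structure. -/
noncomputable def resVal (G : (A' ⊗[A] B) →ₚₗ[A'] C) {T : Type u} [CommSemiring T] [Algebra A T]
    (i : Algebra A' T) (hi : IsScalarTower A A' T) (g : C →+* T)
    (hg : ∀ r : A', g (algebraMap A' C r) = algebraMap A' T r) (x : T ⊗[A] B) : T :=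
  ev G ({ g with commutes' := hg } : C →ₐ[A'] T) ((can A B A' T).symm x)

omit [Algebra A C] [IsScalarTower A A' C] in
theorem resVal_congr (G : (A' ⊗[A] B) →ₚₗ[A'] C) {T : Type u} [CommSemiring T] [Algebra A T]
    (i : Algebra A' T) (hi : IsScalarTower A A' T) (i' : Algebra A' T) (hi' : IsScalarTower A A' T) (g g' : C →+* T)
    (hgg : g = g')
    (hg : ∀ r : A', g (algebraMap A' C r) = i.algebraMap r)
    (hg' : ∀ r : A', g' (algebraMap A' C r) = i'.algebraMap r) (x : T ⊗[A] B) :
    resVal G i hi g hg x = resVal G i' hi' g' hg' x := by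
  subst hgg
  obtain rfl : i = i' := by
    apply Algebra.algebra_ext
    intro r
    exact (hg r).symm.trans (hg' r)
  rfl

omit [Algebra A C] [IsScalarTower A A' C] in
theorem resVal_bc (G : (A' ⊗[A] B) →ₚₗ[A'] C) {T T' : Type u} [CommSemiring T] [Algebra A T]
    [CommSemiring T'] [Algebra A T']
    (i : Algebra A' T) (hi : IsScalarTower A A' T) (i' : Algebra A' T') (hi' : IsScalarTower A A' T') (g : C →+* T)
    (hg : ∀ r : A', g (algebraMap A' C r) = algebraMap A' T r) (h : T →ₐ[A'] T')
    (hg' : ∀ r : A', ((h : T →+* T').comp g) (algebraMap A' C r) = algebraMap A' T' r) (x : T ⊗[A] B) :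
    h (resVal G i hi g hg x) = resVal G i' hi' ((h : T →+* T').comp g) hg' (bc B (h.restrictScalars A) x) := by
  rw [resVal, resVal, ev_map, can_symm_bc]
  rfl

/-- the `A'`-structure on `T` through `C`. -/
abbrev algOf (A' : Type u) [CommRing A'] {C : Type u} [CommRing C] [Algebra A' C] {T : Type u} [CommSemiring T]
    (g : C →+* T) : Algebra A' T :=
  (g.comp (algebraMap A' C)).toAlgebra

theorem tower_algOf {T : Type u} [CommSemiring T] [Algebra A T] (g : C →ₐ[A] T) :
    @IsScalarTower A A' T _ (algOf A' (g : C →+* T)).toSMul _ := by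
  letI := algOf A' (g : C →+* T)
  refine IsScalarTower.of_algebraMap_eq (fun r => ?_)
  change _ = g (algebraMap A' C (algebraMap A A' r))
  rw [← IsScalarTower.algebraMap_apply A A' C, AlgHom.commutes]

/-- the `A`-law `B → C` restricting the `A'`-law `A' ⊗ B → C`. -/
noncomputable def resLaw (G : (A' ⊗[A] B) →ₚₗ[A'] C) : B →ₚₗ[A] C :=
  ofEv (fun T _ _ g x => resVal G (algOf A' (g : C →+* T)) (tower_algOf g) (g : C →+* T) (fun _ => rfl) x) (by
    intro T T' _ _ _ _ h g x
    letI i1 : Algebra A' T := algOf A' (g : C →+* T)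
    letI i2 : Algebra A' T' := algOf A' ((h.comp g : C →ₐ[A] T') : C →+* T')
    haveI i3 : IsScalarTower A A' T := tower_algOf g
    haveI i4 : IsScalarTower A A' T' := tower_algOf (h.comp g)
    let h' : T →ₐ[A'] T' := { (h : T →+* T') with commutes' := fun _ => rfl }
    change h' _ = _
    rw [resVal_bc G i1 i3 i2 i4 (g : C →+* T) (fun _ => rfl) h' (fun _ => rfl) x, rTensor_eq_bc]
    rfl)

theorem ev_resLaw (G : (A' ⊗[A] B) →ₚₗ[A'] C) {T : Type u} [CommSemiring T] [Algebra A T] [i : Algebra A' T]
    [hi : IsScalarTower A A' T] (g : C →ₐ[A'] T) (x : T ⊗[A] B) :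
    ev (resLaw G) (g.restrictScalars A) x = ev G g ((can A B A' T).symm x) := by
  rw [resLaw, ev_ofEv]
  exact resVal_congr G _ _ i hi _ (g : C →+* T) rfl _ g.commutes x

theorem res_ext (F : B →ₚₗ[A] C) : resLaw (extLaw A' F) = F := by
  refine ext_ev fun T _ _ g x => ?_
  letI := algOf A' (g : C →+* T)
  haveI := tower_algOf (A' := A') g
  let g' : C →ₐ[A'] T := { (g : C →+* T) with commutes' := fun _ => rfl }
  change ev _ (g'.restrictScalars A) x = ev _ (g'.restrictScalars A) x
  rw [ev_resLaw, ev_extLaw, AlgEquiv.apply_symm_apply]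

theorem ext_res (G : (A' ⊗[A] B) →ₚₗ[A'] C) : extLaw A' (resLaw G) = G := by
  refine ext_ev fun T _ _ g x => ?_
  letI : Algebra A T := ((algebraMap A' T).comp (algebraMap A A')).toAlgebra
  haveI : IsScalarTower A A' T := IsScalarTower.of_algebraMap_eq' rfl
  rw [ev_extLaw, ev_resLaw, AlgEquiv.symm_apply_apply]

variable {d : ℕ}

/-- extension of multiplicative laws. -/
noncomputable def extMul (A' : Type u) [CommRing A'] [Algebra A A'] {C : Type u} [CommRing C] [Algebra A C]
    [Algebra A' C] [IsScalarTower A A' C] (F : PolLaw.MulLaw A B C d) : PolLaw.MulLaw A' (A' ⊗[A] B) C d where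
  law := extLaw A' F.law
  homog := isHomog_of_ev fun T _ _ g t x => by
    letI : Algebra A T := ((algebraMap A' T).comp (algebraMap A A')).toAlgebra
    haveI : IsScalarTower A A' T := IsScalarTower.of_algebraMap_eq' rfl
    rw [ev_extLaw, ev_extLaw, can_smul, ev_smul F.homog]
  mult := isMult_of_ev (fun T _ _ g => by
    letI : Algebra A T := ((algebraMap A' T).comp (algebraMap A A')).toAlgebra
    haveI : IsScalarTower A A' T := IsScalarTower.of_algebraMap_eq' rfl
    rw [ev_extLaw, map_one, ev_one F.mult]) (fun T _ _ g x y => by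
    letI : Algebra A T := ((algebraMap A' T).comp (algebraMap A A')).toAlgebra
    haveI : IsScalarTower A A' T := IsScalarTower.of_algebraMap_eq' rfl
    rw [ev_extLaw, ev_extLaw, ev_extLaw, map_mul, ev_mul F.mult])

/-- restriction of multiplicative laws. -/
noncomputable def resMul (G : PolLaw.MulLaw A' (A' ⊗[A] B) C d) : PolLaw.MulLaw A B C d where
  law := resLaw G.law
  homog := isHomog_of_ev fun T _ _ g t x => by
    letI := algOf A' (g : C →+* T)
    haveI := tower_algOf (A' := A') g
    let g' : C →ₐ[A'] T := { (g : C →+* T) with commutes' := fun _ => rfl }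
    change ev _ (g'.restrictScalars A) (t • x) = t ^ d * ev _ (g'.restrictScalars A) x
    rw [ev_resLaw, ev_resLaw]
    have : (can A B A' T).symm (t • x) = t • (can A B A' T).symm x := by
      rw [AlgEquiv.symm_apply_eq, can_smul, AlgEquiv.apply_symm_apply]
    rw [this, ev_smul G.homog]
  mult := isMult_of_ev (fun T _ _ g => by
    letI := algOf A' (g : C →+* T)
    haveI := tower_algOf (A' := A') g
    let g' : C →ₐ[A'] T := { (g : C →+* T) with commutes' := fun _ => rfl }
    change ev _ (g'.restrictScalars A) 1 = 1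
    rw [ev_resLaw, map_one, ev_one G.mult]) (fun T _ _ g x y => by
    letI := algOf A' (g : C →+* T)
    haveI := tower_algOf (A' := A') g
    let g' : C →ₐ[A'] T := { (g : C →+* T) with commutes' := fun _ => rfl }
    change ev _ (g'.restrictScalars A) (x * y) = ev _ (g'.restrictScalars A) x * ev _ (g'.restrictScalars A) y
    rw [ev_resLaw, ev_resLaw, ev_resLaw, map_mul, ev_mul G.mult])

end Ext

section BC

variable {C : Type u} [CommRing C] [Algebra A C] {d : ℕ}

/-- The base change of a multiplicative law `B → C` to an `A`-algebra `A'`. -/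
noncomputable def bcLaw (A' : Type u) [CommRing A'] [Algebra A A'] (γ : PolLaw.MulLaw A B C d) :
    PolLaw.MulLaw A' (A' ⊗[A] B) (A' ⊗[A] C) d :=
  extMul A' (γ.postcomp (Algebra.TensorProduct.includeRight : C →ₐ[A] A' ⊗[A] C))

/-- composition of the extended law with an `A'`-algebra map is the extension of the composition. -/
theorem postcomp_extLaw {A' : Type u} [CommRing A'] [Algebra A A'] {C : Type u} [CommRing C] [Algebra A C]
    [Algebra A' C] [IsScalarTower A A' C] {C' : Type u} [CommRing C'] [Algebra A C'] [Algebra A' C']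
    [IsScalarTower A A' C'] (F : B →ₚₗ[A] C) (f : C →ₐ[A'] C') :
    PolLaw.postcomp f.toLinearMap (extLaw A' F) = extLaw A' (PolLaw.postcomp (f.restrictScalars A).toLinearMap F) := by
  refine ext_ev fun T _ _ g x => ?_
  letI : Algebra A T := ((algebraMap A' T).comp (algebraMap A A')).toAlgebra
  haveI : IsScalarTower A A' T := IsScalarTower.of_algebraMap_eq' rfl
  rw [ev_postcomp, ev_extLaw, ev_extLaw, ev_postcomp]
  rfl

/-- **`Γ^d` commutes with base change.** -/
theorem isGammaD_bcLaw {γ : PolLaw.MulLaw A B C d} (hγ : PolLaw.IsGammaD γ) (A' : Type u) [CommRing A']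
    [Algebra A A'] : PolLaw.IsGammaD (bcLaw A' γ) := by
  intro C' _ _ F
  letI : Algebra A C' := ((algebraMap A' C').comp (algebraMap A A')).toAlgebra
  haveI : IsScalarTower A A' C' := IsScalarTower.of_algebraMap_eq' rfl
  obtain ⟨f, hf, hfu⟩ := hγ C' (resMul F)
  have hext : F.law = extLaw A' (PolLaw.postcomp f.toLinearMap γ.law) := by
    rw [hf]; exact (ext_res F.law).symm
  -- composition with a map out of `A' ⊗ C`
  have key : ∀ g : A' ⊗[A] C →ₐ[A'] C', PolLaw.postcomp g.toLinearMap (bcLaw A' γ).law =
      extLaw A' (PolLaw.postcomp ((g.restrictScalars A).comp Algebra.TensorProduct.includeRight).toLinearMap γ.law) := by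
    intro g
    change PolLaw.postcomp g.toLinearMap (extLaw A' (PolLaw.postcomp
      (Algebra.TensorProduct.includeRight : C →ₐ[A] A' ⊗[A] C).toLinearMap γ.law)) = _
    rw [postcomp_extLaw, postcomp_postcomp]
    rfl
  let f' : A' ⊗[A] C →ₐ[A'] C' := Algebra.TensorProduct.lift (Algebra.ofId A' C') f (fun _ _ => Commute.all _ _)
  have hf' : (f'.restrictScalars A).comp Algebra.TensorProduct.includeRight = f := by
    ext c; simp [f']
  refine ⟨f', ?_, fun g hg => ?_⟩
  · change PolLaw.postcomp f'.toLinearMap (bcLaw A' γ).law = F.law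
    rw [key, hf', hext]
  · change PolLaw.postcomp g.toLinearMap (bcLaw A' γ).law = F.law at hg
    rw [key] at hg
    have h1 := congr_arg resLaw hg
    rw [res_ext] at h1
    have h2 := hfu ((g.restrictScalars A).comp Algebra.TensorProduct.includeRight) h1
    apply Algebra.TensorProduct.ext
    · ext
    · change (g.restrictScalars A).comp Algebra.TensorProduct.includeRight =
        (f'.restrictScalars A).comp Algebra.TensorProduct.includeRight
      rw [h2, hf']

end BC

end K757.BaseChange
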