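import Groth.Agent.ZeroCyc.K757.SpanFin
import Groth.Agent.ZeroCyc.K757.BaseChange
import Mathlib.RingTheory.FinitePresentation
import Mathlib.RingTheory.FiniteStability

/-!
# `Γ^d_A(B)` for `B` of finite presentation
-/

set_option autoImplicit false
set_option linter.style.haveILetI false
universe u
open scoped TensorProduct
open K757.Ev K757.Coeff K757.CH K757.Factor K757.Kr K757.CharPoly K757.Homs K757.Push K757.Exists K757.Fin K757.Fg
open K757.SpanFin K757.BaseChange

namespace K757.FinPres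

variable {A : Type u} [CommRing A] {B : Type u} [CommRing B] [Algebra A B] {C : Type u} [CommRing C] [Algebra A C]
  {d : ℕ}

/-- reduction of an element modulo the kernel to a combination of a finite family. -/
theorem exists_red (F : PolLaw.MulLaw A B C d) (R₀ : Subalgebra A C) {μ : Type u} [Fintype μ] (m : μ → B)
    (h : ∀ b : B, ∃ r : μ → R₀, InKer F.law (AlgHom.id A C) (1 ⊗ₜ[A] b - ∑ j, (r j : C) ⊗ₜ[A] m j))
    {T : Type u} [CommRing T] [Algebra A T] (G : C →ₐ[A] T) (x : T ⊗[A] B) :
    ∃ t : μ → T, InKer F.law G (x - ∑ j, t j ⊗ₜ[A] m j) := by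
  classical
  obtain ⟨s, t, rfl⟩ := exists_sum_of_span (e := (id : B → B)) (by simp) x
  choose r hr using h
  refine ⟨fun j => ∑ b ∈ s, t b * G (r b j), ?_⟩
  have h2 : (∑ i ∈ s, t i ⊗ₜ[A] id i - ∑ j, (∑ b ∈ s, t b * G (r b j)) ⊗ₜ[A] m j) =
      ∑ b ∈ s, (t b ⊗ₜ[A] (1 : B)) * bc B G (1 ⊗ₜ[A] b - ∑ j, (r b j : C) ⊗ₜ[A] m j) := by
    simp only [map_sub, map_sum, Algebra.TensorProduct.map_tmul, map_one, AlgHom.id_apply, mul_sub, id_eq,
      Algebra.TensorProduct.tmul_mul_tmul, mul_one, one_mul, Finset.sum_sub_distrib, Finset.mul_sum,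
      TensorProduct.sum_tmul]
    congr 1
    exact Finset.sum_comm
  rw [h2]
  have h3 : ∀ s : Finset B, InKer F.law (G.comp (AlgHom.id A C))
      (∑ b ∈ s, (t b ⊗ₜ[A] (1 : B)) * bc B G (1 ⊗ₜ[A] b - ∑ j, (r b j : C) ⊗ₜ[A] m j)) := by
    intro s
    induction s using Finset.induction_on with
    | empty => rw [Finset.sum_empty]; exact InKer.zero
    | insert i s hi ih =>
      rw [Finset.sum_insert hi]
      exact (((hr i).bc G).mul_left _).add ih
  exact h3 s

/-- factorization of a multiplicative law through a surjection with kernel inside the kernel of the law. -/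
theorem exists_factorMul {P : Type u} [CommRing P] [Algebra A P] (π : P →ₐ[A] B) (hπ : Function.Surjective π)
    (F : PolLaw.MulLaw A P C d) (h : RingHom.ker π ≤ PolLaw.ker F.law) :
    ∃ G : PolLaw.MulLaw A B C d, PolLaw.precomp G.law π.toLinearMap = F.law := by
  obtain ⟨G, hG⟩ := exists_factor π.toLinearMap hπ F.law (fun κ x y => by
    induction y using TensorProduct.induction_on generalizing x with
    | zero => simp
    | tmul a k =>
      have hk : (k : P) ∈ PolLaw.ker F.law := h k.2
      have h1 := hk (MvPolynomial κ A) x (a ⊗ₜ[A] 1)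
      rw [Algebra.TensorProduct.tmul_mul_tmul, mul_one, one_mul] at h1
      exact h1
    | add y y' hy hy' => rw [map_add, ← add_assoc, hy', hy])
  exact ⟨⟨G, isHomog_of_precomp π.toLinearMap hπ (by rw [hG]; exact F.homog),
    isMult_of_precomp π hπ (by rw [hG]; exact F.mult)⟩, hG⟩

/-- Reduction to the case of the source of a surjection with finitely generated kernel. -/
theorem of_surjective {P : Type u} [CommRing P] [Algebra A P] [Algebra.FiniteType A P] (π : P →ₐ[A] B)
    (hπ : Function.Surjective π) (hker : (RingHom.ker π).FG) {D : Type u} [CommRing D] [Algebra A D]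
    {u : PolLaw.MulLaw A P D d} (hu : PolLaw.IsGammaD u) [Algebra.FinitePresentation A D]
    {γ : PolLaw.MulLaw A B C d} (hγ : PolLaw.IsGammaD γ) : Algebra.FinitePresentation A C := by
  classical
  obtain ⟨R₀, μ, _, m, -, hm⟩ := exists_family u
  obtain ⟨s, hs⟩ := hker
  let κ : Type u := μ ⊕ μ
  let w : MvPolynomial κ D ⊗[A] P := ∑ j, (MvPolynomial.X (Sum.inl j) : MvPolynomial κ D) ⊗ₜ[A] m j
  let y : MvPolynomial κ D ⊗[A] P := ∑ j, (MvPolynomial.X (Sum.inr j) : MvPolynomial κ D) ⊗ₜ[A] m j
  let pf : P → MvPolynomial κ D := fun f => ev u.law (cMap A D κ) (w + y * (1 ⊗ₜ[A] f)) - ev u.law (cMap A D κ) w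
  let J : Ideal D := Ideal.span (s.biUnion fun f => (pf f).support.image (fun γ => (pf f).coeff γ) : Finset D)
  have hcoef : ∀ f ∈ s, ∀ γ, (pf f).coeff γ ∈ J := by
    intro f hf γ
    by_cases h0 : (pf f).coeff γ = 0
    · rw [h0]; exact Ideal.zero_mem _
    · apply Ideal.subset_span
      rw [Finset.mem_coe, Finset.mem_biUnion]
      exact ⟨f, hf, Finset.mem_image.mpr ⟨γ, MvPolynomial.mem_support_iff.mpr h0, rfl⟩⟩
  let q : D →ₐ[A] D ⧸ J := Ideal.Quotient.mkₐ A J
  -- specialization of the generic elements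
  have hspec : ∀ (T : Type u) [CommRing T] [Algebra A T] (G : D →ₐ[A] T) (a b : μ → T) (f : P),
      evalHom G (Sum.elim a b) (pf f) =
        ev u.law G ((∑ j, a j ⊗ₜ[A] m j) + (∑ j, b j ⊗ₜ[A] m j) * (1 ⊗ₜ[A] f)) - ev u.law G (∑ j, a j ⊗ₜ[A] m j) := by
    intro T _ _ G a b f
    have hw : bc P (evalHom G (Sum.elim a b)) w = ∑ j, a j ⊗ₜ[A] m j := by
      simp only [w, map_sum, Algebra.TensorProduct.map_tmul, evalHom_X, Sum.elim_inl, AlgHom.id_apply]
    have hy : bc P (evalHom G (Sum.elim a b)) y = ∑ j, b j ⊗ₜ[A] m j := by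
      simp only [y, map_sum, Algebra.TensorProduct.map_tmul, evalHom_X, Sum.elim_inr, AlgHom.id_apply]
    simp only [pf, map_sub, ev_map]
    rw [map_add, map_mul, hw, hy, Algebra.TensorProduct.map_tmul, map_one, AlgHom.id_apply]
    rw [evalHom_comp_cMap]
  -- the elements of `s` are in the kernel modulo `J`
  have hsker : ∀ f ∈ s, f ∈ PolLaw.ker (u.postcomp q).law := by
    intro f hf
    rw [mem_ker_iff_ev]
    intro T _ _ g x w'
    change ev (PolLaw.postcomp q.toLinearMap u.law) g _ = ev (PolLaw.postcomp q.toLinearMap u.law) g _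
    rw [ev_postcomp, ev_postcomp]
    obtain ⟨a, ha⟩ := exists_red u R₀ m hm (g.comp q) x
    obtain ⟨b, hb⟩ := exists_red u R₀ m hm (g.comp q) w'
    rw [ev_eq_of_sub_mem ha, ev_eq_of_sub_mem (x' := (∑ j, a j ⊗ₜ[A] m j) + (∑ j, b j ⊗ₜ[A] m j) * (1 ⊗ₜ[A] f))]
    · rw [← sub_eq_zero, ← hspec, evalHom_eq_sum _ _ _ (Finset.Subset.refl _)]
      refine Finset.sum_eq_zero fun γ _ => ?_
      have h0 : q ((pf f).coeff γ) = 0 := Ideal.Quotient.eq_zero_iff_mem.mpr (hcoef f hf γ)
      rw [AlgHom.comp_apply, h0, map_zero, zero_mul]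
    · have h1 := ha.add (hb.mul_left (1 ⊗ₜ[A] f))
      convert h1 using 1
      ring
  have hkerle : RingHom.ker π ≤ PolLaw.ker (u.postcomp q).law := by
    rw [← hs, Ideal.span_le]
    exact hsker
  obtain ⟨γ', hγ'⟩ := exists_factorMul π hπ (u.postcomp q) hkerle
  obtain ⟨φ, hφ, -⟩ := hu C (γ.precomp π)
  obtain ⟨ψ, hψ, -⟩ := hγ (D ⧸ J) γ'
  have hφs : Function.Surjective φ := surjective_of_isGammaD u hγ π hπ φ hφ
  have hψφ : ψ.comp φ = q := by
    obtain ⟨k, -, hk⟩ := hu (D ⧸ J) (u.postcomp q)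
    rw [hk (ψ.comp φ), hk q rfl]
    change PolLaw.postcomp (ψ.toLinearMap ∘ₗ φ.toLinearMap) u.law = PolLaw.postcomp q.toLinearMap u.law
    rw [← postcomp_postcomp, hφ]
    change PolLaw.precomp (PolLaw.postcomp ψ.toLinearMap γ.law) π.toLinearMap = _
    rw [hψ, hγ']
    rfl
  have hJ : RingHom.ker φ = J := by
    apply le_antisymm
    · intro x hx
      have h1 : q x = 0 := by
        rw [← hψφ, AlgHom.comp_apply, (RingHom.mem_ker.mp hx : φ x = 0), map_zero]
      exact Ideal.Quotient.eq_zero_iff_mem.mp h1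
    · rw [Ideal.span_le]
      intro x hx
      rw [Finset.mem_coe, Finset.mem_biUnion] at hx
      obtain ⟨f, hf, hx⟩ := hx
      rw [Finset.mem_image] at hx
      obtain ⟨δ, -, rfl⟩ := hx
      have hf0 : π f = 0 := by
        have : f ∈ RingHom.ker π := by rw [← hs]; exact Ideal.subset_span hf
        exact this
      have h1 := hspec (MvPolynomial κ C) ((cMap A C κ).comp φ) (fun j => MvPolynomial.X (Sum.inl j))
        (fun j => MvPolynomial.X (Sum.inr j)) f
      rw [← ev_postcomp, ← ev_postcomp, hφ] at h1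
      change _ = ev (PolLaw.precomp γ.law π.toLinearMap) _ _ - ev (PolLaw.precomp γ.law π.toLinearMap) _ _ at h1
      rw [ev_precomp, ev_precomp, PolLaw.lTensor_algHom_apply, PolLaw.lTensor_algHom_apply, map_add, map_mul,
        Algebra.TensorProduct.map_tmul, hf0, TensorProduct.tmul_zero, mul_zero, add_zero, sub_self] at h1
      have h2 : evalHom ((cMap A C κ).comp φ) (Sum.elim (fun j => MvPolynomial.X (Sum.inl j))
        (fun j => MvPolynomial.X (Sum.inr j))) (pf f) = MvPolynomial.map (φ : D →+* C) (pf f) := by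
        have : (Sum.elim (fun j => MvPolynomial.X (Sum.inl j))
          (fun j => MvPolynomial.X (Sum.inr j)) : κ → MvPolynomial κ C) = MvPolynomial.X := by
          funext j; rcases j with j | j <;> rfl
        rw [this]
        generalize pf f = p
        induction p using MvPolynomial.induction_on' with
        | add p p' hp hp' => rw [map_add, map_add, hp, hp']
        | monomial β c =>
          rw [evalHom_monomial, MvPolynomial.map_monomial, MvPolynomial.monomial_eq]
          rfl
      rw [h2] at h1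
      have h3 := congr_arg (MvPolynomial.coeff δ) h1
      rw [MvPolynomial.coeff_map, MvPolynomial.coeff_zero] at h3
      exact h3
  refine Algebra.FinitePresentation.of_surjective hφs ?_
  change (RingHom.ker φ).FG
  rw [hJ]
  exact ⟨_, rfl⟩

theorem main_aux (Z : Type u) [CommRing Z] [IsNoetherianRing Z] [Algebra Z A]
    {γ : PolLaw.MulLaw A B C d} (hγ : PolLaw.IsGammaD γ) [Algebra.FinitePresentation A B] :
    Algebra.FinitePresentation A C := by
  obtain ⟨n, f, hf, hker⟩ := Algebra.FinitePresentation.out (R := A) (A := B)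
  let ι : Type u := ULift.{u} (Fin n)
  let e₀ : MvPolynomial ι A ≃ₐ[A] MvPolynomial (Fin n) A := MvPolynomial.renameEquiv A Equiv.ulift
  let e : A ⊗[Z] MvPolynomial ι Z ≃ₐ[A] MvPolynomial (Fin n) A :=
    (MvPolynomial.algebraTensorAlgEquiv Z A).trans e₀
  let π : A ⊗[Z] MvPolynomial ι Z →ₐ[A] B :=
    f.comp (e : A ⊗[Z] MvPolynomial ι Z →ₐ[A] MvPolynomial (Fin n) A)
  have hπ : Function.Surjective π := hf.comp e.surjective
  have hπk : (RingHom.ker π).FG := by
    have h1 : RingHom.ker π =
        (RingHom.ker f.toRingHom).map (e.symm : MvPolynomial (Fin n) A →+* A ⊗[Z] MvPolynomial ι Z) := by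
      ext x
      constructor
      · intro hx
        have h2 : e x ∈ RingHom.ker f.toRingHom := hx
        have h3 := Ideal.mem_map_of_mem
          (e.symm : MvPolynomial (Fin n) A →+* A ⊗[Z] MvPolynomial ι Z) h2
        have h4 : (e.symm : MvPolynomial (Fin n) A →+* A ⊗[Z] MvPolynomial ι Z) (e x) = x :=
          e.symm_apply_apply x
        rwa [h4] at h3
      · intro hx
        have h2 : (RingHom.ker f.toRingHom).map
            (e.symm : MvPolynomial (Fin n) A →+* A ⊗[Z] MvPolynomial ι Z) ≤ RingHom.ker π := by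
          rw [Ideal.map_le_iff_le_comap]
          intro y hy
          change f (e (e.symm y)) = 0
          rw [e.apply_symm_apply]
          exact hy
        exact h2 hx
    rw [h1]
    exact hker.map _
  have hft : Algebra.FiniteType A (A ⊗[Z] MvPolynomial ι Z) := inferInstance
  have hD₀ : Algebra.FiniteType Z (Gam Z (MvPolynomial ι Z) d) :=
    finiteType (isGammaD_gam Z (MvPolynomial ι Z) d)
  have hD₀' : Algebra.FinitePresentation Z (Gam Z (MvPolynomial ι Z) d) :=
    Algebra.FinitePresentation.of_finiteType.mp hD₀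
  have hD : Algebra.FinitePresentation A (A ⊗[Z] Gam Z (MvPolynomial ι Z) d) := inferInstance
  exact of_surjective π hπ hπk (isGammaD_bcLaw (isGammaD_gam Z (MvPolynomial ι Z) d) A) hγ

/-- **`Γ^d_A(B)` is of finite presentation for `B` of finite presentation.** -/
theorem main {γ : PolLaw.MulLaw A B C d} (hγ : PolLaw.IsGammaD γ) [Algebra.FinitePresentation A B] :
    Algebra.FinitePresentation A C := by
  have hZ : IsNoetherianRing (ULift.{u} ℤ) := isNoetherianRing_of_ringEquiv ℤ (ULift.ringEquiv (R := ℤ)).symm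
  letI : Algebra (ULift.{u} ℤ) A := ((Int.castRingHom A).comp (ULift.ringEquiv (R := ℤ)).toRingHom).toAlgebra
  exact main_aux (ULift.{u} ℤ) hγ

end K757.FinPres
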