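import Groth.Agent.ZeroCyc.K757.Ev
import Mathlib.Algebra.MvPolynomial.Equiv
import Mathlib.Algebra.Order.Antidiag.Finsupp
import Mathlib.Algebra.Polynomial.Coeff

/-!
# Coefficients of polynomial laws on families of elements
-/

set_option autoImplicit false
universe u
open scoped TensorProduct
open K757.Ev

namespace K757.Coeff

section Gen

variable {A : Type u} [CommRing A] {M : Type u} [AddCommGroup M] [Module A M]
  {C : Type u} [CommRing C] [Algebra A C] {ι : Type u}

variable (A C ι) in
/-- `C → C[X_i]` as an `A`-algebra map. -/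
noncomputable def cMap : C →ₐ[A] MvPolynomial ι C := IsScalarTower.toAlgHom A C (MvPolynomial ι C)

@[simp] lemma cMap_apply (c : C) : cMap A C ι c = MvPolynomial.C c := rfl

/-- evaluation `C[X_i] → T`, `X_i ↦ t i`, through `g : C → T`. -/
noncomputable def evalHom {T : Type u} [CommSemiring T] [Algebra A T] (g : C →ₐ[A] T) (t : ι → T) :
    MvPolynomial ι C →ₐ[A] T :=
  { MvPolynomial.eval₂Hom (g : C →+* T) t with
    commutes' := fun a => by
      change MvPolynomial.eval₂Hom (g : C →+* T) t (algebraMap A (MvPolynomial ι C) a) = _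
      rw [MvPolynomial.algebraMap_apply, MvPolynomial.coe_eval₂Hom, MvPolynomial.eval₂_C]
      exact g.commutes a }

lemma evalHom_apply {T : Type u} [CommSemiring T] [Algebra A T] (g : C →ₐ[A] T) (t : ι → T)
    (p : MvPolynomial ι C) : evalHom g t p = MvPolynomial.eval₂ (g : C →+* T) t p := rfl

@[simp] lemma evalHom_X {T : Type u} [CommSemiring T] [Algebra A T] (g : C →ₐ[A] T) (t : ι → T) (i : ι) :
    evalHom g t (MvPolynomial.X i) = t i := by
  rw [evalHom_apply, MvPolynomial.eval₂_X]

@[simp] lemma evalHom_C {T : Type u} [CommSemiring T] [Algebra A T] (g : C →ₐ[A] T) (t : ι → T) (c : C) :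
    evalHom g t (MvPolynomial.C c) = g c := by
  rw [evalHom_apply, MvPolynomial.eval₂_C]; rfl

lemma evalHom_monomial {T : Type u} [CommSemiring T] [Algebra A T] (g : C →ₐ[A] T) (t : ι → T)
    (α : ι →₀ ℕ) (c : C) :
    evalHom g t (MvPolynomial.monomial α c) = g c * α.prod (fun i n => t i ^ n) := by
  rw [evalHom_apply, MvPolynomial.eval₂_monomial]; rfl

lemma evalHom_comp_cMap {T : Type u} [CommSemiring T] [Algebra A T] (g : C →ₐ[A] T) (t : ι → T) :
    (evalHom g t).comp (cMap A C ι) = g := by
  ext c; simp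

lemma evalHom_eq_sum {T : Type u} [CommSemiring T] [Algebra A T] (g : C →ₐ[A] T) (t : ι → T)
    (p : MvPolynomial ι C) {s : Finset (ι →₀ ℕ)} (hs : p.support ⊆ s) :
    evalHom g t p = ∑ α ∈ s, g (p.coeff α) * α.prod (fun i n => t i ^ n) := by
  conv_lhs => rw [p.as_sum]
  rw [map_sum]
  simp_rw [evalHom_monomial]
  refine Finset.sum_subset hs fun α _ hα => ?_
  rw [MvPolynomial.notMem_support_iff.mp hα, map_zero, zero_mul]

/-- The value of `F` at the generic element `∑_{i ∈ s} X_i ⊗ e_i`. -/
noncomputable def gen (F : M →ₚₗ[A] C) (e : ι → M) (s : Finset ι) : MvPolynomial ι C :=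
  ev F (cMap A C ι) (∑ i ∈ s, (MvPolynomial.X i : MvPolynomial ι C) ⊗ₜ[A] e i)

/-- Every value of a law on combinations of the `e_i` is obtained by evaluating `gen`. -/
theorem ev_sum (F : M →ₚₗ[A] C) (e : ι → M) (s : Finset ι) {T : Type u} [CommSemiring T] [Algebra A T]
    (g : C →ₐ[A] T) (t : ι → T) :
    ev F g (∑ i ∈ s, t i ⊗ₜ[A] e i) = evalHom g t (gen F e s) := by
  rw [gen, ev_bc, evalHom_comp_cMap]
  congr 1
  simp

/-- restriction to a smaller set of variables. -/
theorem coeff_gen_of_subset (F : M →ₚₗ[A] C) (e : ι → M) {s s' : Finset ι} (h : s' ⊆ s) (α : ι →₀ ℕ)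
    (hα : α.support ⊆ s') : (gen F e s).coeff α = (gen F e s').coeff α := by
  classical
  have h1 : gen F e s' = evalHom (cMap A C ι) (fun i => if i ∈ s' then MvPolynomial.X i else 0)
      (gen F e s) := by
    rw [← ev_sum, gen]
    congr 1
    symm
    rw [← Finset.sum_subset h]
    · exact Finset.sum_congr rfl fun i hi => by rw [if_pos hi]
    · intro i _ hi
      rw [if_neg hi, TensorProduct.zero_tmul]
  rw [h1]
  generalize gen F e s = p
  induction p using MvPolynomial.induction_on' with
  | add p q hp hq => simp only [map_add, MvPolynomial.coeff_add, hp, hq]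
  | monomial β b =>
      rw [evalHom_monomial, cMap_apply, MvPolynomial.coeff_C_mul, MvPolynomial.coeff_monomial]
      by_cases hs : β.support ⊆ s'
      · have : (β.prod fun i n => ((if i ∈ s' then MvPolynomial.X i else 0 : MvPolynomial ι C)) ^ n) =
            MvPolynomial.monomial β 1 := by
          rw [MvPolynomial.monomial_eq, MvPolynomial.C_1, one_mul]
          exact Finsupp.prod_congr fun i hi => by rw [if_pos (hs hi)]
        rw [this, MvPolynomial.coeff_monomial]
        split_ifs <;> simp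
      · have hne : β ≠ α := fun h => hs (h ▸ hα)
        obtain ⟨i, hi, hi'⟩ := Finset.not_subset.mp hs
        have : (β.prod fun i n => ((if i ∈ s' then MvPolynomial.X i else 0 : MvPolynomial ι C)) ^ n) = 0 := by
          refine Finset.prod_eq_zero hi ?_
          simp only
          rw [if_neg hi', zero_pow (Finsupp.mem_support_iff.mp hi)]
        rw [this, if_neg hne, MvPolynomial.coeff_zero, mul_zero]


/-- the generic values of a homogeneous law are homogeneous. -/
theorem coeff_gen_eq_zero {F : M →ₚₗ[A] C} {d : ℕ} (hF : PolLaw.IsHomog F d) (e : ι → M) (s : Finset ι)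
    {α : ι →₀ ℕ} (hα : α.degree ≠ d) : (gen F e s).coeff α = 0 := by
  classical
  let cT : MvPolynomial ι C →ₐ[A] Polynomial (MvPolynomial ι C) :=
    IsScalarTower.toAlgHom A (MvPolynomial ι C) (Polynomial (MvPolynomial ι C))
  have hcT : ∀ q, cT q = Polynomial.C q := fun q => rfl
  have h1 : evalHom (cT.comp (cMap A C ι)) (fun i => Polynomial.X * cT (MvPolynomial.X i)) (gen F e s) =
      Polynomial.X ^ d * Polynomial.C (gen F e s) := by
    rw [← ev_sum]
    have : ∑ i ∈ s, (Polynomial.X * cT (MvPolynomial.X i)) ⊗ₜ[A] e i =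
        (Polynomial.X : Polynomial (MvPolynomial ι C)) • ∑ i ∈ s, cT (MvPolynomial.X i) ⊗ₜ[A] e i := by
      rw [Finset.smul_sum]
      exact Finset.sum_congr rfl fun i _ => by rw [TensorProduct.smul_tmul', smul_eq_mul]
    rw [this, ev_smul hF, ev_sum, ← hcT]
    congr 1
    conv_rhs => rw [gen, ev_bc]
    rw [← ev_sum]
    congr 1
    simp
  rw [evalHom_eq_sum _ _ _ (Finset.Subset.refl _)] at h1
  have h2 : ∀ β ∈ (gen F e s).support,
      (cT.comp (cMap A C ι)) ((gen F e s).coeff β) *
        (β.prod fun i n => (Polynomial.X * cT (MvPolynomial.X i)) ^ n) =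
      Polynomial.X ^ β.degree * Polynomial.C (MvPolynomial.monomial β ((gen F e s).coeff β)) := by
    intro β _
    have : (β.prod fun i n => (Polynomial.X * cT (MvPolynomial.X i)) ^ n) =
        Polynomial.X ^ β.degree * cT (MvPolynomial.monomial β 1) := by
      rw [MvPolynomial.monomial_eq, MvPolynomial.C_1, one_mul, Finsupp.prod, Finsupp.prod, map_prod]
      simp_rw [mul_pow, map_pow]
      rw [Finset.prod_mul_distrib, Finset.prod_pow_eq_pow_sum]
      rfl
    rw [this, AlgHom.comp_apply, cMap_apply, ← hcT]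
    rw [mul_left_comm, ← map_mul, MvPolynomial.C_mul_monomial, mul_one]
  rw [Finset.sum_congr rfl h2] at h1
  have h3 := congr_arg (fun q => (Polynomial.coeff q α.degree).coeff α) h1
  simp only [Polynomial.finsetSum_coeff, MvPolynomial.coeff_sum] at h3
  rw [Polynomial.X_pow_mul, Polynomial.coeff_C_mul, Polynomial.coeff_X_pow, if_neg hα, mul_zero,
    MvPolynomial.coeff_zero] at h3
  by_contra hne
  have hmem : α ∈ (gen F e s).support := MvPolynomial.mem_support_iff.mpr hne
  rw [Finset.sum_eq_single α] at h3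
  · rw [Polynomial.X_pow_mul, Polynomial.coeff_C_mul, Polynomial.coeff_X_pow, if_pos rfl, mul_one,
      MvPolynomial.coeff_monomial, if_pos rfl] at h3
    exact hne h3
  · intro β _ hβ
    rw [Polynomial.X_pow_mul, Polynomial.coeff_C_mul, Polynomial.coeff_X_pow]
    split_ifs
    · rw [mul_one, MvPolynomial.coeff_monomial, if_neg hβ]
    · simp
  · intro h; exact absurd hmem h

/-- the coefficient of `F` at the multi-index `α`, for the family `e`. -/
noncomputable def cf (F : M →ₚₗ[A] C) (e : ι → M) (α : ι →₀ ℕ) : C := (gen F e α.support).coeff α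

theorem coeff_gen (F : M →ₚₗ[A] C) (e : ι → M) {s : Finset ι} {α : ι →₀ ℕ} (hα : α.support ⊆ s) :
    (gen F e s).coeff α = cf F e α :=
  coeff_gen_of_subset F e hα α (Finset.Subset.refl _)

theorem support_gen_subset [DecidableEq ι] {F : M →ₚₗ[A] C} {d : ℕ} (hF : PolLaw.IsHomog F d) (e : ι → M) (s : Finset ι) :
    (gen F e s).support ⊆ s.finsuppAntidiag d := by
  intro α hα
  rw [Finset.mem_finsuppAntidiag']
  rw [MvPolynomial.mem_support_iff] at hα
  refine ⟨?_, ?_⟩
  · by_contra h
    exact hα (coeff_gen_eq_zero hF e s h)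
  · by_contra h
    apply hα
    obtain ⟨i, hi, hi'⟩ := Finset.not_subset.mp h
    -- the generic element does not involve `X i`
    have h1 : gen F e s = evalHom (cMap A C ι) (fun j => if j ∈ s then MvPolynomial.X j else 0) (gen F e s) := by
      rw [← ev_sum]
      conv_lhs => rw [gen]
      congr 1
      exact Finset.sum_congr rfl fun j hj => by rw [if_pos hj]
    rw [h1]
    generalize gen F e s = p
    induction p using MvPolynomial.induction_on' with
    | add p q hp hq => simp only [map_add, MvPolynomial.coeff_add, hp, hq, add_zero]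
    | monomial β b =>
        rw [evalHom_monomial, cMap_apply, MvPolynomial.coeff_C_mul]
        by_cases hs : β.support ⊆ s
        · have : (β.prod fun i n => ((if i ∈ s then MvPolynomial.X i else 0 : MvPolynomial ι C)) ^ n) =
              MvPolynomial.monomial β 1 := by
            rw [MvPolynomial.monomial_eq, MvPolynomial.C_1, one_mul]
            exact Finsupp.prod_congr fun i hi => by rw [if_pos (hs hi)]
          have hne : β ≠ α := fun h => hi' (hs (h ▸ hi))
          rw [this, MvPolynomial.coeff_monomial, if_neg hne, mul_zero]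
        · obtain ⟨i, hi, hi'⟩ := Finset.not_subset.mp hs
          have : (β.prod fun i n => ((if i ∈ s then MvPolynomial.X i else 0 : MvPolynomial ι C)) ^ n) = 0 := by
            refine Finset.prod_eq_zero hi ?_
            simp only
            rw [if_neg hi', zero_pow (Finsupp.mem_support_iff.mp hi)]
          rw [this, MvPolynomial.coeff_zero, mul_zero]

/-- Expansion of the values of a homogeneous law. -/
theorem ev_sum_eq [DecidableEq ι] {F : M →ₚₗ[A] C} {d : ℕ} (hF : PolLaw.IsHomog F d) (e : ι → M) (s : Finset ι)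
    {T : Type u} [CommSemiring T] [Algebra A T] (g : C →ₐ[A] T) (t : ι → T) :
    ev F g (∑ i ∈ s, t i ⊗ₜ[A] e i) =
      ∑ α ∈ s.finsuppAntidiag d, g (cf F e α) * α.prod (fun i n => t i ^ n) := by
  rw [ev_sum, evalHom_eq_sum _ _ _ (support_gen_subset hF e s)]
  refine Finset.sum_congr rfl fun α hα => ?_
  rw [coeff_gen F e (Finset.mem_finsuppAntidiag'.mp hα).2]

/-- Expansion of a homogeneous law. -/
theorem toFun'_sum_eq [DecidableEq ι] {F : M →ₚₗ[A] C} {d : ℕ} (hF : PolLaw.IsHomog F d) (e : ι → M) (s : Finset ι)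
    {S : Type u} [CommSemiring S] [Algebra A S] (t : ι → S) :
    F.toFun' S (∑ i ∈ s, t i ⊗ₜ[A] e i) =
      ∑ α ∈ s.finsuppAntidiag d, (α.prod fun i n => t i ^ n) ⊗ₜ[A] cf F e α := by
  rw [toFun'_eq_ev]
  have h : (Algebra.TensorProduct.includeLeft : S →ₐ[A] S ⊗[A] C).toLinearMap.rTensor M
      (∑ i ∈ s, t i ⊗ₜ[A] e i) = ∑ i ∈ s, (t i ⊗ₜ[A] (1 : C)) ⊗ₜ[A] e i := by simp
  rw [h, ev_sum_eq hF e s _ (fun i => t i ⊗ₜ[A] (1 : C))]
  refine Finset.sum_congr rfl fun α _ => ?_
  have h2 : (α.prod fun i n => ((t i ⊗ₜ[A] (1 : C)) : S ⊗[A] C) ^ n) = (α.prod fun i n => t i ^ n) ⊗ₜ[A] 1 := by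
    change _ = (Algebra.TensorProduct.includeLeft : S →ₐ[A] S ⊗[A] C) _
    rw [Finsupp.prod, Finsupp.prod, map_prod]
    exact Finset.prod_congr rfl fun i _ => by rw [map_pow]; rfl
  rw [h2, Algebra.TensorProduct.includeRight_apply, Algebra.TensorProduct.tmul_mul_tmul, one_mul, mul_one]


/-- coefficients of a law composed with a linear map. -/
theorem cf_postcomp {C' : Type u} [CommRing C'] [Algebra A C'] {F : M →ₚₗ[A] C} {d : ℕ}
    (hF : PolLaw.IsHomog F d) (l : C →ₗ[A] C') (e : ι → M) (α : ι →₀ ℕ) :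
    cf (PolLaw.postcomp l F) e α = l (cf F e α) := by
  classical
  rw [cf, gen, ev]
  change (mulMap (cMap A C' ι) (l.lTensor (MvPolynomial ι C') (F.toFun' (MvPolynomial ι C')
    (∑ i ∈ α.support, MvPolynomial.X i ⊗ₜ[A] e i)))).coeff α = _
  rw [toFun'_sum_eq hF, map_sum, map_sum, MvPolynomial.coeff_sum]
  have h : ∀ β : ι →₀ ℕ, (mulMap (cMap A C' ι) (l.lTensor (MvPolynomial ι C')
      ((β.prod fun i n => (MvPolynomial.X i : MvPolynomial ι C') ^ n) ⊗ₜ[A] cf F e β))).coeff α =
      if β = α then l (cf F e β) else 0 := by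
    intro β
    rw [LinearMap.lTensor_tmul, mulMap_tmul, cMap_apply]
    have : (β.prod fun i n => (MvPolynomial.X i : MvPolynomial ι C') ^ n) = MvPolynomial.monomial β 1 := by
      rw [MvPolynomial.monomial_eq, MvPolynomial.C_1, one_mul]
    rw [this, mul_comm, MvPolynomial.C_mul_monomial, mul_one, MvPolynomial.coeff_monomial]
  rw [Finset.sum_congr rfl fun β _ => h β, Finset.sum_ite_eq']
  split_ifs with hα
  · rfl
  · rw [cf, coeff_gen_eq_zero hF, map_zero]
    intro hd
    exact hα (Finset.mem_finsuppAntidiag'.mpr ⟨hd, Finset.Subset.refl _⟩)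

theorem cf_eq_zero {F : M →ₚₗ[A] C} {d : ℕ} (hF : PolLaw.IsHomog F d) (e : ι → M) {α : ι →₀ ℕ}
    (hα : α.degree ≠ d) : cf F e α = 0 := coeff_gen_eq_zero hF e _ hα

/-- every element of `T ⊗ M` is a combination of the members of a spanning family. -/
theorem exists_sum_of_span {e : ι → M} (he : Submodule.span A (Set.range e) = ⊤)
    {T : Type u} [CommSemiring T] [Algebra A T] (x : T ⊗[A] M) :
    ∃ (s : Finset ι) (t : ι → T), x = ∑ i ∈ s, t i ⊗ₜ[A] e i := by
  classical
  suffices h : ∃ c : ι →₀ T, x = c.sum fun i t => t ⊗ₜ[A] e i by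
    obtain ⟨c, hc⟩ := h
    exact ⟨c.support, c, hc⟩
  induction x using TensorProduct.induction_on with
  | zero => exact ⟨0, by simp⟩
  | tmul t m =>
      have hm : m ∈ Submodule.span A (Set.range e) := he ▸ Submodule.mem_top
      obtain ⟨c, rfl⟩ := Finsupp.mem_span_range_iff_exists_finsupp.mp hm
      refine ⟨c.mapRange (fun a => a • t) (zero_smul _ _), ?_⟩
      have h1 := Finsupp.sum_mapRange_index (g := c) (f := fun a => a • t) (hf := zero_smul _ _)
        (h := fun i t => t ⊗ₜ[A] e i) (fun _ => TensorProduct.zero_tmul _ _)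
      rw [h1, Finsupp.sum, Finsupp.sum, TensorProduct.tmul_sum]
      exact Finset.sum_congr rfl fun i _ => by rw [TensorProduct.tmul_smul, TensorProduct.smul_tmul']
  | add x y hx hy =>
      obtain ⟨c, rfl⟩ := hx
      obtain ⟨c', rfl⟩ := hy
      refine ⟨c + c', ?_⟩
      exact (Finsupp.sum_add_index' (h := fun i t => t ⊗ₜ[A] e i) (fun _ => TensorProduct.zero_tmul _ _)
        (fun _ _ _ => TensorProduct.add_tmul _ _ _)).symm

/-- Two homogeneous laws with the same coefficients on a spanning family are equal. -/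
theorem ext_cf {F G : M →ₚₗ[A] C} {d : ℕ} (hF : PolLaw.IsHomog F d) (hG : PolLaw.IsHomog G d) {e : ι → M}
    (he : Submodule.span A (Set.range e) = ⊤) (h : ∀ α, cf F e α = cf G e α) : F = G := by
  classical
  refine PolynomialLaw.ext ?_
  funext S _ _ x
  obtain ⟨s, t, rfl⟩ := exists_sum_of_span he x
  rw [toFun'_sum_eq hF, toFun'_sum_eq hG]
  exact Finset.sum_congr rfl fun α _ => by rw [h]

theorem isHomog_postcomp {N N' : Type u} [AddCommGroup N] [Module A N] [AddCommGroup N'] [Module A N']
    {F : M →ₚₗ[A] N} {d : ℕ} (hF : PolLaw.IsHomog F d) (l : N →ₗ[A] N') :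
    PolLaw.IsHomog (PolLaw.postcomp l F) d := by
  intro S _ _ s x
  change l.lTensor S (F.toFun' S (s • x)) = s ^ d • l.lTensor S (F.toFun' S x)
  rw [hF S s x]
  generalize F.toFun' S x = z
  induction z using TensorProduct.induction_on with
  | zero => simp
  | tmul a b => simp [TensorProduct.smul_tmul']
  | add a b ha hb => simp only [smul_add, map_add, ha, hb]

end Gen

section Pol

variable {A : Type u} [CommRing A] {M : Type u} [AddCommGroup M] [Module A M]
  {C : Type u} [CommRing C] [Algebra A C] {κ : Type u}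

variable (A C κ) in
/-- `A[X] → C[X]`. -/
noncomputable def polMap : MvPolynomial κ A →ₐ[A] MvPolynomial κ C := MvPolynomial.mapAlgHom (Algebra.ofId A C)

@[simp] lemma polMap_X (i : κ) : polMap A C κ (MvPolynomial.X i) = MvPolynomial.X i := by
  simp [polMap]

lemma coeff_polMap (γ : κ →₀ ℕ) (p : MvPolynomial κ A) : (polMap A C κ p).coeff γ = algebraMap A C (p.coeff γ) := by
  simp only [polMap, MvPolynomial.mapAlgHom_apply]
  rw [← MvPolynomial.coeff_map]; rfl

variable (A C κ) in
/-- `A[X] ⊗ C → C[X]`. -/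
noncomputable def toP : MvPolynomial κ A ⊗[A] C →ₐ[A] MvPolynomial κ C :=
  Algebra.TensorProduct.productMap (polMap A C κ) (cMap A C κ)

@[simp] lemma toP_tmul (p : MvPolynomial κ A) (c : C) : toP A C κ (p ⊗ₜ c) = polMap A C κ p * MvPolynomial.C c := by
  simp [toP]

theorem ev_polMap (F : M →ₚₗ[A] C) (z : MvPolynomial κ A ⊗[A] M) :
    ev F (cMap A C κ) ((polMap A C κ).toLinearMap.rTensor M z) = toP A C κ (F.toFun' _ z) := by
  rw [ev, ← F.isCompat_apply']
  generalize F.toFun' _ z = w
  induction w using TensorProduct.induction_on with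
  | zero => simp
  | tmul a b => simp
  | add a b ha hb => simp only [map_add, ha, hb]

theorem coeff_toP_lTensor {C' : Type u} [CommRing C'] [Algebra A C'] (l : C →ₗ[A] C') (γ : κ →₀ ℕ)
    (w : MvPolynomial κ A ⊗[A] C) :
    (toP A C' κ (l.lTensor _ w)).coeff γ = l ((toP A C κ w).coeff γ) := by
  induction w using TensorProduct.induction_on with
  | zero => simp
  | tmul a b =>
      rw [LinearMap.lTensor_tmul, toP_tmul, toP_tmul, mul_comm, MvPolynomial.coeff_C_mul, mul_comm,
        mul_comm _ (MvPolynomial.C b), MvPolynomial.coeff_C_mul, coeff_polMap, coeff_polMap,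
        ← Algebra.smul_def, mul_comm b, ← Algebra.smul_def, map_smul]
  | add a b ha hb => simp only [map_add, MvPolynomial.coeff_add, ha, hb]

/-- coefficients of the values of a law at elements defined over `A[X]`, after a linear map. -/
theorem coeff_ev_postcomp {C' : Type u} [CommRing C'] [Algebra A C'] (F : M →ₚₗ[A] C) (l : C →ₗ[A] C')
    (z : MvPolynomial κ A ⊗[A] M) (γ : κ →₀ ℕ) :
    (ev (PolLaw.postcomp l F) (cMap A C' κ) ((polMap A C' κ).toLinearMap.rTensor M z)).coeff γ =
      l ((ev F (cMap A C κ) ((polMap A C κ).toLinearMap.rTensor M z)).coeff γ) := by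
  rw [ev_polMap, ev_polMap]
  exact coeff_toP_lTensor l γ _

end Pol

section Two

variable {ι : Type u} {R : Type u} [CommRing R]

/-- the pair of multi-indices `(α, β)`. -/
noncomputable def pairIdx (α β : ι →₀ ℕ) : (ι ⊕ ι) →₀ ℕ := α.mapDomain Sum.inl + β.mapDomain Sum.inr

lemma pairIdx_inl (α β : ι →₀ ℕ) (i : ι) : pairIdx α β (Sum.inl i) = α i := by
  rw [pairIdx, Finsupp.add_apply, Finsupp.mapDomain_apply Sum.inl_injective, Finsupp.mapDomain_of_notMem_range,
    add_zero]
  simp

lemma pairIdx_inr (α β : ι →₀ ℕ) (i : ι) : pairIdx α β (Sum.inr i) = β i := by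
  rw [pairIdx, Finsupp.add_apply, Finsupp.mapDomain_apply Sum.inr_injective, Finsupp.mapDomain_of_notMem_range,
    zero_add]
  simp

lemma pairIdx_inj {α β α' β' : ι →₀ ℕ} (h : pairIdx α β = pairIdx α' β') : α = α' ∧ β = β' := by
  constructor
  · ext i; rw [← pairIdx_inl α β, h, pairIdx_inl]
  · ext i; rw [← pairIdx_inr α β, h, pairIdx_inr]

lemma coeff_rename_mul (p q : MvPolynomial ι R) (α β : ι →₀ ℕ) :
    (MvPolynomial.rename Sum.inl p * MvPolynomial.rename Sum.inr q).coeff (pairIdx α β) =
      p.coeff α * q.coeff β := by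
  classical
  induction p using MvPolynomial.induction_on' with
  | add p p' hp hp' => simp only [map_add, add_mul, MvPolynomial.coeff_add, hp, hp']
  | monomial α' a =>
    induction q using MvPolynomial.induction_on' with
    | add q q' hq hq' => simp only [map_add, mul_add, MvPolynomial.coeff_add, hq, hq']
    | monomial β' b =>
      rw [MvPolynomial.rename_monomial, MvPolynomial.rename_monomial, MvPolynomial.monomial_mul]
      change (MvPolynomial.monomial (pairIdx α' β') (a * b)).coeff (pairIdx α β) = _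
      rw [MvPolynomial.coeff_monomial, MvPolynomial.coeff_monomial, MvPolynomial.coeff_monomial]
      by_cases h : pairIdx α' β' = pairIdx α β
      · obtain ⟨rfl, rfl⟩ := pairIdx_inj h
        simp
      · rw [if_neg h]
        by_cases h1 : α' = α
        · subst h1
          have h2 : β' ≠ β := fun h2 => h (by rw [h2])
          rw [if_neg h2, mul_zero]
        · rw [if_neg h1, zero_mul]

variable {A : Type u} [CommRing A] {B : Type u} [CommRing B] [Algebra A B] {C : Type u} [CommRing C] [Algebra A C]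

variable (A) in
/-- the product of two generic elements, over `A[X_i, Y_i]`. -/
noncomputable def genMul (e : ι → B) (s : Finset ι) : MvPolynomial (ι ⊕ ι) A ⊗[A] B :=
  (∑ i ∈ s, (MvPolynomial.X (Sum.inl i) : MvPolynomial (ι ⊕ ι) A) ⊗ₜ[A] e i) *
    ∑ i ∈ s, (MvPolynomial.X (Sum.inr i) : MvPolynomial (ι ⊕ ι) A) ⊗ₜ[A] e i

/-- products of coefficients are coefficients of the value at the product of generic elements. -/
theorem coeff_genMul {F : B →ₚₗ[A] C} (hm : PolLaw.IsMult F) (e : ι → B) (s : Finset ι) {α β : ι →₀ ℕ}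
    (hα : α.support ⊆ s) (hβ : β.support ⊆ s) :
    (ev F (cMap A C (ι ⊕ ι)) ((polMap A C (ι ⊕ ι)).toLinearMap.rTensor B (genMul A e s))).coeff (pairIdx α β) =
      cf F e α * cf F e β := by
  rw [rTensor_eq_bc, genMul, map_mul, ev_mul hm]
  have h1 : ∀ j : ι → ι ⊕ ι, ev F (cMap A C (ι ⊕ ι)) (bc B (polMap A C (ι ⊕ ι))
      (∑ i ∈ s, (MvPolynomial.X (j i) : MvPolynomial (ι ⊕ ι) A) ⊗ₜ[A] e i)) =
      MvPolynomial.rename j (gen F e s) := by
    intro j
    simp only [map_sum, Algebra.TensorProduct.map_tmul, polMap_X, AlgHom.id_apply]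
    rw [ev_sum]
    generalize gen F e s = p
    induction p using MvPolynomial.induction_on with
    | C a => rw [evalHom_C, MvPolynomial.rename_C, cMap_apply]
    | add p q hp hq => rw [map_add, map_add, hp, hq]
    | mul_X p i hp => rw [map_mul, map_mul, hp, evalHom_X, MvPolynomial.rename_X]
  rw [h1, h1, coeff_rename_mul, coeff_gen F e hα, coeff_gen F e hβ]

end Two

end K757.Coeff
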