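import Groth.Agent.ZeroCyc.K757.Coeff
import Mathlib.LinearAlgebra.TensorProduct.RightExactness
import Mathlib.RingTheory.TensorProduct.MvPolynomial

/-!
# Factoring laws through surjections; coefficients over `A[X]`; spans of coefficients
-/

set_option autoImplicit false
universe u
open scoped TensorProduct
open K757.Ev K757.Coeff

namespace K757.Factor

section Lift

variable {A : Type u} [CommRing A] {M N : Type u} [AddCommGroup M] [Module A M] [AddCommGroup N] [Module A N]

/-- Lifting a pair of elements to a polynomial ring, variables in `Type u`. -/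
theorem exists_lift_pair' {S : Type u} [CommSemiring S] [Algebra A S] (x : S ⊗[A] M) (y : S ⊗[A] N) :
    ∃ (κ : Type u) (ψ : MvPolynomial κ A →ₐ[A] S) (x' : MvPolynomial κ A ⊗[A] M)
      (y' : MvPolynomial κ A ⊗[A] N),
      ψ.toLinearMap.rTensor M x' = x ∧ ψ.toLinearMap.rTensor N y' = y := by
  obtain ⟨n, ψ, x', y', hx, hy⟩ := exists_lift_pair x y
  let r : MvPolynomial (ULift.{u} (Fin n)) A ≃ₐ[A] MvPolynomial (Fin n) A :=
    MvPolynomial.renameEquiv A Equiv.ulift
  refine ⟨ULift.{u} (Fin n), ψ.comp (r : _ →ₐ[A] _), (r.symm : MvPolynomial (Fin n) A →ₐ[A] _).toLinearMap.rTensor M x',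
    (r.symm : MvPolynomial (Fin n) A →ₐ[A] _).toLinearMap.rTensor N y', ?_, ?_⟩
  · rw [← LinearMap.comp_apply, ← LinearMap.rTensor_comp, ← hx]
    congr 2
    ext i; simp
  · rw [← LinearMap.comp_apply, ← LinearMap.rTensor_comp, ← hy]
    congr 2
    ext i; simp

/-- exactness, for a test algebra that is only a semiring. -/
theorem exists_of_lTensor_eq_zero {M'' : Type u} [AddCommGroup M''] [Module A M''] (π : M →ₗ[A] M'')
    (hπ : Function.Surjective π) {S : Type u} [CommSemiring S] [Algebra A S] (x : S ⊗[A] M)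
    (hx : π.lTensor S x = 0) : ∃ y : S ⊗[A] (LinearMap.ker π), (LinearMap.ker π).subtype.lTensor S y = x := by
  let : AddCommGroup S := Module.addCommMonoidToAddCommGroup A
  exact (lTensor_exact S (LinearMap.exact_subtype_ker_map π) hπ x).mp hx

/-- Two elements with the same image differ by an element coming from the kernel. -/
theorem exists_of_lTensor_eq {M'' : Type u} [AddCommGroup M''] [Module A M''] (π : M →ₗ[A] M'')
    (hπ : Function.Surjective π) {S : Type u} [CommSemiring S] [Algebra A S] (x x' : S ⊗[A] M)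
    (hx : π.lTensor S x = π.lTensor S x') :
    ∃ y : S ⊗[A] (LinearMap.ker π), x = x' + (LinearMap.ker π).subtype.lTensor S y := by
  let : AddCommGroup S := Module.addCommMonoidToAddCommGroup A
  obtain ⟨y, hy⟩ := exists_of_lTensor_eq_zero π hπ (x - x')
    (by rw [map_sub, hx, sub_self])
  exact ⟨y, by rw [hy]; abel⟩

/-- A law constant along the kernel of a surjection factors through it. -/
theorem exists_factor {M'' : Type u} [AddCommGroup M''] [Module A M''] (π : M →ₗ[A] M'')
    (hπ : Function.Surjective π) (F : M →ₚₗ[A] N)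
    (h : ∀ (κ : Type u) (x : MvPolynomial κ A ⊗[A] M) (y : MvPolynomial κ A ⊗[A] (LinearMap.ker π)),
      F.toFun' _ (x + (LinearMap.ker π).subtype.lTensor _ y) = F.toFun' _ x) :
    ∃ G : M'' →ₚₗ[A] N, PolLaw.precomp G π = F := by
  have h1 : ∀ (S : Type u) [CommSemiring S] [Algebra A S] (x x' : S ⊗[A] M),
      π.lTensor S x = π.lTensor S x' → F.toFun' S x = F.toFun' S x' := by
    intro S _ _ x x' hx
    obtain ⟨y, rfl⟩ := exists_of_lTensor_eq π hπ x x' hx
    obtain ⟨κ, ψ, x', y', rfl, rfl⟩ := exists_lift_pair' x' y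
    have h2 : ψ.toLinearMap.rTensor M x' + (LinearMap.ker π).subtype.lTensor S (ψ.toLinearMap.rTensor _ y') =
        ψ.toLinearMap.rTensor M (x' + (LinearMap.ker π).subtype.lTensor _ y') := by
      rw [map_add]
      congr 1
      rw [← LinearMap.comp_apply, LinearMap.lTensor_comp_rTensor, ← LinearMap.rTensor_comp_lTensor,
        LinearMap.comp_apply]
    rw [h2, ← F.isCompat_apply', ← F.isCompat_apply', h]
  have hs : ∀ (S : Type u) [CommSemiring S] [Algebra A S], Function.Surjective (π.lTensor S) :=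
    fun S _ _ => LinearMap.lTensor_surjective S hπ
  refine ⟨⟨fun S _ _ z => F.toFun' S (Function.surjInv (hs S) z), fun {S} _ _ {S'} _ _ φ => ?_⟩, ?_⟩
  · funext z
    simp only [Function.comp_apply]
    rw [F.isCompat_apply']
    apply h1
    rw [Function.surjInv_eq (hs S'), ← LinearMap.comp_apply, LinearMap.lTensor_comp_rTensor,
      ← LinearMap.rTensor_comp_lTensor, LinearMap.comp_apply, Function.surjInv_eq (hs S)]
  · refine PolynomialLaw.ext ?_
    funext S _ _ x
    change F.toFun' S (Function.surjInv (hs S) (π.lTensor S x)) = _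
    apply h1
    rw [Function.surjInv_eq (hs S)]

theorem precomp_injective {M'' : Type u} [AddCommGroup M''] [Module A M''] (π : M →ₗ[A] M'')
    (hπ : Function.Surjective π) {G G' : M'' →ₚₗ[A] N} (h : PolLaw.precomp G π = PolLaw.precomp G' π) : G = G' := by
  refine PolynomialLaw.ext ?_
  funext S _ _ z
  obtain ⟨x, rfl⟩ := LinearMap.lTensor_surjective S hπ z
  exact congr_arg (fun F => F.toFun' S x) h

theorem isHomog_of_precomp {M'' : Type u} [AddCommGroup M''] [Module A M''] (π : M →ₗ[A] M'')
    (hπ : Function.Surjective π) {G : M'' →ₚₗ[A] N} {d : ℕ} (h : PolLaw.IsHomog (PolLaw.precomp G π) d) :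
    PolLaw.IsHomog G d := by
  intro S _ _ s z
  obtain ⟨x, rfl⟩ := LinearMap.lTensor_surjective S hπ z
  have h1 : s • π.lTensor S x = π.lTensor S (s • x) := by
    induction x using TensorProduct.induction_on with
    | zero => simp
    | tmul a b => simp [TensorProduct.smul_tmul']
    | add a b ha hb => simp only [smul_add, map_add, ha, hb]
  rw [h1]
  exact h S s x

theorem isMult_of_precomp {B B' C : Type u} [CommRing B] [Algebra A B] [CommRing B'] [Algebra A B']
    [CommRing C] [Algebra A C] (π : B' →ₐ[A] B) (hπ : Function.Surjective π) {G : B →ₚₗ[A] C}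
    (h : PolLaw.IsMult (PolLaw.precomp G π.toLinearMap)) : PolLaw.IsMult G := by
  intro S _ _
  have h1 := h S
  refine ⟨?_, fun x y => ?_⟩
  · rw [← h1.1]
    change _ = G.toFun' S (π.toLinearMap.lTensor S 1)
    rw [PolLaw.lTensor_algHom_apply, map_one]
  · obtain ⟨x, rfl⟩ := LinearMap.lTensor_surjective S (g := π.toLinearMap) hπ x
    obtain ⟨y, rfl⟩ := LinearMap.lTensor_surjective S (g := π.toLinearMap) hπ y
    refine Eq.trans ?_ (h1.2 x y)
    change _ = G.toFun' S (π.toLinearMap.lTensor S (x * y))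
    rw [PolLaw.lTensor_algHom_apply, PolLaw.lTensor_algHom_apply, PolLaw.lTensor_algHom_apply, map_mul]

end Lift

section ToP

variable {A : Type u} [CommRing A] {M : Type u} [AddCommGroup M] [Module A M]
  {C : Type u} [CommRing C] [Algebra A C] {κ : Type u}

theorem toP_injective : Function.Injective (toP A C κ) := by
  have h : (toP A C κ) = ((MvPolynomial.algebraTensorAlgEquiv (σ := κ) A C).restrictScalars A :
      C ⊗[A] MvPolynomial κ A →ₐ[A] MvPolynomial κ C).comp
      (Algebra.TensorProduct.comm A (MvPolynomial κ A) C : _ →ₐ[A] _) := by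
    apply Algebra.TensorProduct.ext
    · ext i; simp [toP]
    · ext c; simp [toP, MvPolynomial.algebraTensorAlgEquiv_tmul, MvPolynomial.smul_eq_C_mul]
  rw [h]
  change Function.Injective
    ((MvPolynomial.algebraTensorAlgEquiv (σ := κ) A C) ∘ (Algebra.TensorProduct.comm A (MvPolynomial κ A) C))
  exact (MvPolynomial.algebraTensorAlgEquiv (σ := κ) A C).injective.comp
    (Algebra.TensorProduct.comm A (MvPolynomial κ A) C).injective

/-- coefficients of values of a homogeneous law lie in the span of the coefficients on a spanning family. -/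
theorem coeff_mem_span {F : M →ₚₗ[A] C} {d : ℕ} (hF : PolLaw.IsHomog F d) {ι : Type u} {e : ι → M}
    (he : Submodule.span A (Set.range e) = ⊤) (z : MvPolynomial κ A ⊗[A] M) (γ : κ →₀ ℕ) :
    (ev F (cMap A C κ) ((polMap A C κ).toLinearMap.rTensor M z)).coeff γ ∈
      Submodule.span A (Set.range (cf F e)) := by
  classical
  obtain ⟨s, t, rfl⟩ := exists_sum_of_span he z
  rw [ev_polMap, toFun'_sum_eq hF, map_sum, MvPolynomial.coeff_sum]
  refine Submodule.sum_mem _ fun α _ => ?_
  rw [toP_tmul, mul_comm, MvPolynomial.coeff_C_mul, coeff_polMap, mul_comm, ← Algebra.smul_def]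
  exact Submodule.smul_mem _ _ (Submodule.subset_span ⟨α, rfl⟩)

theorem gen_eq_ev (F : M →ₚₗ[A] C) {ι : Type u} (e : ι → M) (s : Finset ι) :
    gen F e s = ev F (cMap A C ι) ((polMap A C ι).toLinearMap.rTensor M
      (∑ i ∈ s, (MvPolynomial.X i : MvPolynomial ι A) ⊗ₜ[A] e i)) := by
  rw [gen]
  congr 1
  simp

/-- coefficients on any family lie in the span of the coefficients on a spanning family. -/
theorem cf_mem_span {F : M →ₚₗ[A] C} {d : ℕ} (hF : PolLaw.IsHomog F d) {ι ι' : Type u} {e : ι → M}
    (he : Submodule.span A (Set.range e) = ⊤) (e' : ι' → M) (α : ι' →₀ ℕ) :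
    cf F e' α ∈ Submodule.span A (Set.range (cf F e)) := by
  rw [cf, gen_eq_ev]
  exact coeff_mem_span hF he _ _

theorem cf_precomp {M' : Type u} [AddCommGroup M'] [Module A M'] (F : M →ₚₗ[A] C) (f : M' →ₗ[A] M)
    {ι : Type u} (e : ι → M') (α : ι →₀ ℕ) : cf (PolLaw.precomp F f) e α = cf F (fun i => f (e i)) α := by
  rw [cf, cf, gen, gen, ev_precomp]
  congr 2
  simp

/-- products of coefficients on a spanning family are in the span. -/
theorem cf_mul_mem_span {B : Type u} [CommRing B] [Algebra A B] {F : B →ₚₗ[A] C} {d : ℕ} (hF : PolLaw.IsHomog F d)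
    (hm : PolLaw.IsMult F) {ι : Type u} {e : ι → B} (he : Submodule.span A (Set.range e) = ⊤) (α β : ι →₀ ℕ) :
    cf F e α * cf F e β ∈ Submodule.span A (Set.range (cf F e)) := by
  classical
  rw [← coeff_genMul hm e (s := α.support ∪ β.support) Finset.subset_union_left Finset.subset_union_right]
  exact coeff_mem_span hF he _ _

end ToP

section Two

variable {ι κ : Type u}

/-- the pair of multi-indices `(α, β)`, two kinds of variables. -/
noncomputable def pairI (α : ι →₀ ℕ) (β : κ →₀ ℕ) : (ι ⊕ κ) →₀ ℕ := α.mapDomain Sum.inl + β.mapDomain Sum.inr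

lemma pairI_inl (α : ι →₀ ℕ) (β : κ →₀ ℕ) (i : ι) : pairI α β (Sum.inl i) = α i := by
  rw [pairI, Finsupp.add_apply, Finsupp.mapDomain_apply Sum.inl_injective, Finsupp.mapDomain_of_notMem_range,
    add_zero]
  simp

lemma pairI_inr (α : ι →₀ ℕ) (β : κ →₀ ℕ) (i : κ) : pairI α β (Sum.inr i) = β i := by
  rw [pairI, Finsupp.add_apply, Finsupp.mapDomain_apply Sum.inr_injective, Finsupp.mapDomain_of_notMem_range,
    zero_add]
  simp

lemma pairI_inj {α α' : ι →₀ ℕ} {β β' : κ →₀ ℕ} (h : pairI α β = pairI α' β') : α = α' ∧ β = β' := by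
  constructor
  · ext i; rw [← pairI_inl α β, h, pairI_inl]
  · ext i; rw [← pairI_inr α β, h, pairI_inr]

lemma coeff_rename_mul' {R : Type u} [CommRing R] (p : MvPolynomial ι R) (q : MvPolynomial κ R) (α : ι →₀ ℕ) (β : κ →₀ ℕ) :
    (MvPolynomial.rename Sum.inl p * MvPolynomial.rename Sum.inr q).coeff (pairI α β) =
      p.coeff α * q.coeff β := by
  classical
  induction p using MvPolynomial.induction_on' with
  | add p p' hp hp' => simp only [map_add, add_mul, MvPolynomial.coeff_add, hp, hp']
  | monomial α' a =>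
    induction q using MvPolynomial.induction_on' with
    | add q q' hq hq' => simp only [map_add, mul_add, MvPolynomial.coeff_add, hq, hq']
    | monomial β' b =>
      rw [MvPolynomial.rename_monomial, MvPolynomial.rename_monomial, MvPolynomial.monomial_mul]
      change (MvPolynomial.monomial (pairI α' β') (a * b)).coeff (pairI α β) = _
      rw [MvPolynomial.coeff_monomial, MvPolynomial.coeff_monomial, MvPolynomial.coeff_monomial]
      by_cases h : pairI α' β' = pairI α β
      · obtain ⟨rfl, rfl⟩ := pairI_inj h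
        simp
      · rw [if_neg h]
        by_cases h1 : α' = α
        · subst h1
          have h2 : β' ≠ β := fun h2 => h (by rw [h2])
          rw [if_neg h2, mul_zero]
        · rw [if_neg h1, zero_mul]

end Two

section Ev

variable {A : Type u} [CommRing A] {B : Type u} [CommRing B] [Algebra A B]
  {C : Type u} [CommRing C] [Algebra A C] {κ κ' : Type u}

/-- the polynomial with coefficients in `C` that is the value of `F` at an element defined over `A[X]`. -/
noncomputable def pv (F : B →ₚₗ[A] C) (z : MvPolynomial κ A ⊗[A] B) : MvPolynomial κ C :=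
  ev F (cMap A C κ) (bc B (polMap A C κ) z)

theorem pv_eq_toP (F : B →ₚₗ[A] C) (z : MvPolynomial κ A ⊗[A] B) : pv F z = toP A C κ (F.toFun' _ z) := by
  rw [pv, ← rTensor_eq_bc, ev_polMap]

theorem pv_rename (F : B →ₚₗ[A] C) (j : κ → κ') (z : MvPolynomial κ A ⊗[A] B) :
    pv F (bc B (MvPolynomial.rename j) z) = MvPolynomial.rename j (pv F z) := by
  have h : ((MvPolynomial.rename j : MvPolynomial κ C →ₐ[C] MvPolynomial κ' C).restrictScalars A) (pv F z) =
      MvPolynomial.rename j (pv F z) := rfl
  rw [← h, pv, pv, ev_map]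
  congr 1
  · ext c; simp
  · rw [← AlgHom.comp_apply, ← AlgHom.comp_apply]
    congr 1
    ext <;> simp

theorem pv_mul {F : B →ₚₗ[A] C} (hF : PolLaw.IsMult F) (z z' : MvPolynomial κ A ⊗[A] B) :
    pv F (z * z') = pv F z * pv F z' := by
  rw [pv, map_mul, ev_mul hF]; rfl

theorem coeff_pv_postcomp {C' : Type u} [CommRing C'] [Algebra A C'] (F : B →ₚₗ[A] C) (l : C →ₗ[A] C')
    (z : MvPolynomial κ A ⊗[A] B) (γ : κ →₀ ℕ) :
    (pv (PolLaw.postcomp l F) z).coeff γ = l ((pv F z).coeff γ) := by
  rw [pv, pv, ← rTensor_eq_bc, ← rTensor_eq_bc, coeff_ev_postcomp]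

theorem pv_precomp {B' : Type u} [CommRing B'] [Algebra A B'] (F : B →ₚₗ[A] C) (f : B' →ₐ[A] B)
    (z : MvPolynomial κ A ⊗[A] B') :
    pv (PolLaw.precomp F f.toLinearMap) z = pv F (Algebra.TensorProduct.map (AlgHom.id A _) f z) := by
  rw [pv_eq_toP, pv_eq_toP]
  change toP A C κ (F.toFun' _ (f.toLinearMap.lTensor _ z)) = _
  rw [PolLaw.lTensor_algHom_apply]; rfl

end Ev

end K757.Factor
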