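import Groth.Agent.ZeroCyc.K757.InKer
import Mathlib.Algebra.BigOperators.Option
import Mathlib.Algebra.Polynomial.BigOperators
import Mathlib.Algebra.Polynomial.Degree.Lemmas

/-!
# Characteristic polynomials of elements with respect to a law
-/

set_option autoImplicit false
universe u
open scoped TensorProduct
open K757.Ev K757.Coeff K757.TSFree K757.TSBasis K757.CH K757.Factor K757.Kr

namespace K757.CharPoly

variable {A : Type u} [CommRing A] {B : Type u} [CommRing B] [Algebra A B]
  {C : Type u} [CommRing C] [Algebra A C]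

theorem cf_single {F : B →ₚₗ[A] C} {d : ℕ} (hF : PolLaw.IsHomog F d) (hm : PolLaw.IsMult F) {ι : Type u} (e : ι → B)
    {i : ι} (hi : e i = 1) : cf F e (Finsupp.single i d) = 1 := by
  classical
  rw [← coeff_gen F e (s := {i}) Finsupp.support_single_subset, gen, Finset.sum_singleton, hi]
  have h : (MvPolynomial.X i : MvPolynomial ι C) ⊗ₜ[A] (1 : B) = (MvPolynomial.X i : MvPolynomial ι C) • 1 := by
    rw [Algebra.TensorProduct.one_def, TensorProduct.smul_tmul', smul_eq_mul, mul_one]
  rw [h, ev_smul hF, ev_one hm, mul_one, MvPolynomial.coeff_X_pow, if_pos rfl]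

section Def

variable (F : B →ₚₗ[A] C) {T : Type u} [CommRing T] [Algebra A T] (g : C →ₐ[A] T) (y : T ⊗[A] B)

/-- the characteristic polynomial `F(y - X)`. -/
noncomputable def chi : Polynomial T :=
  ev F ((cX A T).comp g) (bc B (cX A T) y - (Polynomial.X : Polynomial T) ⊗ₜ[A] 1)

theorem aeval_chi : Polynomial.aeval y (chi F g y) = chB F g y := by
  let h : Polynomial T →ₐ[A] T ⊗[A] B := (Polynomial.aeval y).restrictScalars A
  change h (chi F g y) = _
  rw [chi, ev_map, chB]
  have h1 : h.comp (cX A T) = iL T B := by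
    ext t
    change Polynomial.aeval y (Polynomial.C t) = _
    rw [Polynomial.aeval_C]; rfl
  rw [← AlgHom.comp_assoc, h1, map_sub, bc_bc, h1]
  congr 2
  rw [Algebra.TensorProduct.map_tmul]
  change (Polynomial.aeval y Polynomial.X) ⊗ₜ[A] _ = _
  rw [Polynomial.aeval_X]; rfl

theorem chi_map {T₁ : Type u} [CommRing T₁] [Algebra A T₁] (k : T →ₐ[A] T₁) :
    chi F (k.comp g) (bc B k y) = (chi F g y).map (k : T →+* T₁) := by
  let h : Polynomial T →ₐ[A] Polynomial T₁ := Polynomial.mapAlgHom k
  have hh : ∀ p, h p = p.map (k : T →+* T₁) := fun p => rfl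
  rw [← hh, chi, chi, ev_map]
  have h1 : h.comp (cX A T) = (cX A T₁).comp k := AlgHom.ext fun t => by
    change (Polynomial.C t).map (k : T →+* T₁) = _
    rw [Polynomial.map_C]; rfl
  rw [← AlgHom.comp_assoc h, h1, map_sub, bc_bc, bc_bc, h1, AlgHom.comp_assoc]
  congr 2
  rw [Algebra.TensorProduct.map_tmul, hh, Polynomial.map_X]; rfl

open Classical in
theorem chi_eq_sum {d : ℕ} {F : B →ₚₗ[A] C} (hF : PolLaw.IsHomog F d) (s : Finset B) (t : B → T) :
    ∃ c : (Option B →₀ ℕ) → T, (∀ α : Option B →₀ ℕ, α = Finsupp.single none d →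
      c α = (-1) ^ d * g (cf F (fun o : Option B => o.elim 1 id) α)) ∧
      chi F g (∑ b ∈ s, t b ⊗ₜ[A] b) = ∑ α ∈ (Finset.insertNone s).finsuppAntidiag d,
        Polynomial.C (c α) * Polynomial.X ^ (α none) := by
  refine ⟨fun α => (-1) ^ (α none) * g (cf F (fun o : Option B => o.elim 1 id) α) * ∏ b ∈ s, t b ^ (α (some b)), ?_, ?_⟩
  · rintro _ rfl
    simp only [Finsupp.single_eq_same]
    rw [Finset.prod_eq_one, mul_one]
    intro b _
    rw [Finsupp.single_apply, if_neg (by simp), pow_zero]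
  · rw [chi]
    have h1 : bc B (cX A T) (∑ b ∈ s, t b ⊗ₜ[A] b) - (Polynomial.X : Polynomial T) ⊗ₜ[A] 1 =
        ∑ o ∈ Finset.insertNone s, (o.elim (-Polynomial.X) (fun b => Polynomial.C (t b)) : Polynomial T) ⊗ₜ[A]
          ((fun o : Option B => o.elim 1 id) o) := by
      rw [Finset.sum_insertNone, map_sum, sub_eq_add_neg, add_comm]
      congr 1
    rw [h1, ev_sum_eq hF (fun o : Option B => o.elim 1 id)]
    refine Finset.sum_congr rfl fun α hα => ?_
    rw [Finset.mem_finsuppAntidiag'] at hα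
    rw [Finsupp.prod_of_support_subset _ hα.2 _ (fun _ _ => pow_zero _), Finset.prod_insertNone]
    simp only [Option.elim_none, Option.elim_some]
    rw [neg_pow, AlgHom.comp_apply, cX_apply, map_mul, map_mul, map_prod, map_pow, map_neg, map_one]
    simp_rw [map_pow]
    ring1

theorem natDegree_chi_le {d : ℕ} {F : B →ₚₗ[A] C} (hF : PolLaw.IsHomog F d) : (chi F g y).natDegree ≤ d := by
  classical
  obtain ⟨s, t, rfl⟩ := exists_sum_of_span (e := (id : B → B)) (by simp) y
  obtain ⟨c, -, hc⟩ := chi_eq_sum g hF s t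
  simp only [id_eq]
  rw [hc]
  refine Polynomial.natDegree_sum_le_of_forall_le _ _ fun α hα => ?_
  refine (Polynomial.natDegree_C_mul_X_pow_le _ _).trans ?_
  rw [Finset.mem_finsuppAntidiag'] at hα
  rw [← hα.1]
  exact Finsupp.le_degree none α

theorem coeff_chi {d : ℕ} {F : B →ₚₗ[A] C} (hF : PolLaw.IsHomog F d) (hm : PolLaw.IsMult F) :
    (chi F g y).coeff d = (-1) ^ d := by
  classical
  obtain ⟨s, t, rfl⟩ := exists_sum_of_span (e := (id : B → B)) (by simp) y
  obtain ⟨c, hc0, hc⟩ := chi_eq_sum g hF s t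
  simp only [id_eq]
  rw [hc, Polynomial.finsetSum_coeff]
  rw [Finset.sum_eq_single (Finsupp.single none d)]
  · rw [Polynomial.coeff_C_mul_X_pow, Finsupp.single_eq_same, if_pos rfl, hc0 _ rfl,
      cf_single hF hm _ (by simp), map_one, mul_one]
  · intro α hα hne
    rw [Polynomial.coeff_C_mul_X_pow, if_neg]
    intro hd
    apply hne
    rw [Finset.mem_finsuppAntidiag'] at hα
    have h1 : α.degree = d := hα.1
    have h2 : Finsupp.single none (α none) ≤ α := by
      rw [Finsupp.single_le_iff]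
    have h3 := congr_arg Finsupp.degree (add_tsub_cancel_of_le h2)
    rw [map_add, Finsupp.degree_single, h1, hd] at h3
    have h4 : (α - Finsupp.single none (α none)).degree = 0 := by omega
    rw [Finsupp.degree_eq_zero_iff] at h4
    have h5 := add_tsub_cancel_of_le h2
    rw [h4, add_zero] at h5
    rw [← h5, hd]
  · intro h
    exfalso
    apply h
    rw [Finset.mem_finsuppAntidiag']
    refine ⟨?_, ?_⟩
    · rw [Finsupp.sum_single_index rfl]
    · refine Finsupp.support_single_subset.trans ?_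
      rw [Finset.singleton_subset_iff]
      exact Finset.none_mem_insertNone

end Def

section Nil

variable {T : Type u} [CommRing T] [Algebra A T] {d : ℕ} (F : PolLaw.MulLaw A B C d) (g : C →ₐ[A] T)

/-- elements of `T ⊗ B` annihilated (to order one) by the law are nilpotent modulo the kernel. -/
theorem inKer_pow {y : T ⊗[A] B} (h : ev F.law ((iL T B).comp g) (bc B (iL T B) y - iL (T ⊗[A] B) B y) =
    ev F.law ((iL T B).comp g) (- iL (T ⊗[A] B) B y)) : InKer F.law g (y ^ d) := by
  have h1 : chB F.law g y = (-1) ^ d * y ^ d := by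
    rw [chB, h]
    have : - iL (T ⊗[A] B) B y = (-y) • (1 : (T ⊗[A] B) ⊗[A] B) := by
      rw [Algebra.TensorProduct.one_def, TensorProduct.smul_tmul', smul_eq_mul, mul_one]
      simp [TensorProduct.neg_tmul]
    rw [this, ev_smul F.homog, ev_one F.mult, mul_one, neg_pow]
  have h2 := (inKer_chB F g y).mul_left ((-1) ^ d)
  rw [h1, ← mul_assoc, ← mul_pow, neg_one_mul, neg_neg, one_pow, one_mul] at h2
  exact h2

theorem inKer_pow_of_inKer {y : T ⊗[A] B} (h : InKer F.law g y) : chB F.law g y = (-1) ^ d * y ^ d := by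
  have h1 : ev F.law ((iL T B).comp g) (bc B (iL T B) y - iL (T ⊗[A] B) B y) =
    ev F.law ((iL T B).comp g) (- iL (T ⊗[A] B) B y) := by
    rw [sub_eq_add_neg, add_comm]
    exact ev_add_of_inKer (h.bc (iL T B)) _
  rw [chB, h1]
  have : - iL (T ⊗[A] B) B y = (-y) • (1 : (T ⊗[A] B) ⊗[A] B) := by
    rw [Algebra.TensorProduct.one_def, TensorProduct.smul_tmul', smul_eq_mul, mul_one]
    simp [TensorProduct.neg_tmul]
  rw [this, ev_smul F.homog, ev_one F.mult, mul_one, neg_pow]

end Nil

end K757.CharPoly
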