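import Groth.Prelude.Def_PolLaw
import Mathlib.RingTheory.TensorProduct.Maps
import Mathlib.RingTheory.MvPolynomial.Homogeneous
import Mathlib.Algebra.MvPolynomial.Basic

/-!
# Values of polynomial laws in algebras over the target

For a law `F : M → C` into an `A`-algebra `C`, an `A`-algebra `T` and an algebra map `g : C → T`,
`ev F g : T ⊗[A] M → T` is `F_T` followed by `T ⊗ C → T`, `t ⊗ c ↦ t * g c`.
-/

set_option autoImplicit false
universe u
open scoped TensorProduct

namespace K757.Ev

section Basic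

variable {A : Type u} [CommRing A] {M : Type u} [AddCommGroup M] [Module A M]
  {C : Type u} [CommRing C] [Algebra A C]

/-- `T ⊗ C → T`, `t ⊗ c ↦ t * g c`. -/
noncomputable def mulMap {T : Type u} [CommSemiring T] [Algebra A T] (g : C →ₐ[A] T) : T ⊗[A] C →ₐ[A] T :=
  Algebra.TensorProduct.productMap (AlgHom.id A T) g

@[simp] lemma mulMap_tmul {T : Type u} [CommSemiring T] [Algebra A T] (g : C →ₐ[A] T) (t : T) (c : C) :
    mulMap g (t ⊗ₜ[A] c) = t * g c := by
  simp [mulMap]

/-- the value of `F` at `x : T ⊗ M` through `g : C → T`. -/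
noncomputable def ev (F : M →ₚₗ[A] C) {T : Type u} [CommSemiring T] [Algebra A T] (g : C →ₐ[A] T)
    (x : T ⊗[A] M) : T := mulMap g (F.toFun' T x)

lemma mulMap_bc {T T' : Type u} [CommSemiring T] [Algebra A T] [CommSemiring T'] [Algebra A T']
    (h : T →ₐ[A] T') (g : C →ₐ[A] T) (z : T ⊗[A] C) :
    h (mulMap g z) = mulMap (h.comp g) (h.toLinearMap.rTensor C z) := by
  induction z using TensorProduct.induction_on with
  | zero => simp
  | tmul a b => simp
  | add a b ha hb => simp [ha, hb]

theorem ev_bc (F : M →ₚₗ[A] C) {T T' : Type u} [CommSemiring T] [Algebra A T] [CommSemiring T'] [Algebra A T']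
    (h : T →ₐ[A] T') (g : C →ₐ[A] T) (x : T ⊗[A] M) :
    h (ev F g x) = ev F (h.comp g) (h.toLinearMap.rTensor M x) := by
  rw [ev, ev, mulMap_bc, F.isCompat_apply']

theorem mulMap_includeRight {S : Type u} [CommSemiring S] [Algebra A S] (z : S ⊗[A] C) :
    mulMap (Algebra.TensorProduct.includeRight : C →ₐ[A] S ⊗[A] C)
      ((Algebra.TensorProduct.includeLeft : S →ₐ[A] S ⊗[A] C).toLinearMap.rTensor C z) = z := by
  induction z using TensorProduct.induction_on with
  | zero => simp
  | tmul a b => simp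
  | add a b ha hb => simp only [map_add, ha, hb]

/-- A law is recovered from its values. -/
theorem toFun'_eq_ev (F : M →ₚₗ[A] C) {S : Type u} [CommSemiring S] [Algebra A S] (x : S ⊗[A] M) :
    F.toFun' S x = ev F (Algebra.TensorProduct.includeRight : C →ₐ[A] S ⊗[A] C)
      ((Algebra.TensorProduct.includeLeft : S →ₐ[A] S ⊗[A] C).toLinearMap.rTensor M x) := by
  rw [ev, ← F.isCompat_apply', mulMap_includeRight]

theorem ev_postcomp {C' : Type u} [CommRing C'] [Algebra A C'] (F : M →ₚₗ[A] C) (f : C →ₐ[A] C')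
    {T : Type u} [CommSemiring T] [Algebra A T] (g : C' →ₐ[A] T) (x : T ⊗[A] M) :
    ev (PolLaw.postcomp f.toLinearMap F) g x = ev F (g.comp f) x := by
  rw [ev, ev]
  change mulMap g (f.toLinearMap.lTensor T (F.toFun' T x)) = _
  generalize F.toFun' T x = z
  induction z using TensorProduct.induction_on with
  | zero => simp
  | tmul a b => simp
  | add a b ha hb => simp only [map_add, ha, hb]

theorem ev_precomp {M' : Type u} [AddCommGroup M'] [Module A M'] (F : M →ₚₗ[A] C) (f : M' →ₗ[A] M)
    {T : Type u} [CommSemiring T] [Algebra A T] (g : C →ₐ[A] T) (x : T ⊗[A] M') :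
    ev (PolLaw.precomp F f) g x = ev F g (f.lTensor T x) := rfl

theorem ev_smul {F : M →ₚₗ[A] C} {d : ℕ} (hF : PolLaw.IsHomog F d)
    {T : Type u} [CommSemiring T] [Algebra A T] (g : C →ₐ[A] T) (t : T) (x : T ⊗[A] M) :
    ev F g (t • x) = t ^ d * ev F g x := by
  rw [ev, ev, hF T t x]
  generalize F.toFun' T x = z
  induction z using TensorProduct.induction_on with
  | zero => simp
  | tmul a b => simp [TensorProduct.smul_tmul', mul_assoc]
  | add a b ha hb => simp only [map_add, smul_add, ha, hb, mul_add]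

/-- Lifting a pair of elements to a polynomial ring. -/
theorem exists_lift_pair {S : Type u} [CommSemiring S] [Algebra A S] {M N : Type u}
    [AddCommGroup M] [Module A M] [AddCommGroup N] [Module A N] (x : S ⊗[A] M) (y : S ⊗[A] N) :
    ∃ (n : ℕ) (ψ : MvPolynomial (Fin n) A →ₐ[A] S) (x' : MvPolynomial (Fin n) A ⊗[A] M)
      (y' : MvPolynomial (Fin n) A ⊗[A] N),
      ψ.toLinearMap.rTensor M x' = x ∧ ψ.toLinearMap.rTensor N y' = y := by
  obtain ⟨n, ψ, p, hp⟩ := PolynomialLaw.exists_lift
    ((LinearMap.inl A M N).lTensor S x + (LinearMap.inr A M N).lTensor S y)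
  refine ⟨n, ψ, (LinearMap.fst A M N).lTensor _ p, (LinearMap.snd A M N).lTensor _ p, ?_, ?_⟩
  · rw [← LinearMap.comp_apply, LinearMap.rTensor_comp_lTensor, ← LinearMap.lTensor_comp_rTensor,
      LinearMap.comp_apply, hp, map_add, ← LinearMap.comp_apply, ← LinearMap.comp_apply,
      ← LinearMap.lTensor_comp, ← LinearMap.lTensor_comp, LinearMap.fst_comp_inl,
      LinearMap.fst_comp_inr]
    simp
  · rw [← LinearMap.comp_apply, LinearMap.rTensor_comp_lTensor, ← LinearMap.lTensor_comp_rTensor,
      LinearMap.comp_apply, hp, map_add, ← LinearMap.comp_apply, ← LinearMap.comp_apply,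
      ← LinearMap.lTensor_comp, ← LinearMap.lTensor_comp, LinearMap.snd_comp_inl,
      LinearMap.snd_comp_inr]
    simp

/-- Two laws agree if they agree over all polynomial rings in finitely many variables. -/
theorem ext_mvPolynomial {N : Type u} [AddCommGroup N] [Module A N] {F G : M →ₚₗ[A] N}
    (h : ∀ (n : ℕ) (x : MvPolynomial (Fin n) A ⊗[A] M), F.toFun' _ x = G.toFun' _ x) : F = G := by
  refine PolynomialLaw.ext ?_
  funext S _ _ x
  obtain ⟨n, ψ, p, rfl⟩ := PolynomialLaw.exists_lift x
  rw [← F.isCompat_apply', ← G.isCompat_apply', h]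

/-- Two laws agree if all values in commutative rings agree. -/
theorem ext_ev {F G : M →ₚₗ[A] C}
    (h : ∀ (T : Type u) [CommRing T] [Algebra A T] (g : C →ₐ[A] T) (x : T ⊗[A] M), ev F g x = ev G g x) :
    F = G := by
  refine ext_mvPolynomial fun n x => ?_
  rw [toFun'_eq_ev, toFun'_eq_ev, h]

/-- The law with prescribed natural values. -/
noncomputable def ofEv (E : ∀ (T : Type u) [CommSemiring T] [Algebra A T] (_ : C →ₐ[A] T), T ⊗[A] M → T)
    (hE : ∀ (T T' : Type u) [CommSemiring T] [Algebra A T] [CommSemiring T'] [Algebra A T']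
      (h : T →ₐ[A] T') (g : C →ₐ[A] T) (x : T ⊗[A] M),
      h (E T g x) = E T' (h.comp g) (h.toLinearMap.rTensor M x)) : M →ₚₗ[A] C where
  toFun' S _ _ x := E (S ⊗[A] C) Algebra.TensorProduct.includeRight
    ((Algebra.TensorProduct.includeLeft : S →ₐ[A] S ⊗[A] C).toLinearMap.rTensor M x)
  isCompat' {S} _ _ {S'} _ _ φ := by
    funext x
    simp only [Function.comp_apply]
    have h1 : ∀ z : S ⊗[A] C, φ.toLinearMap.rTensor C z =
        Algebra.TensorProduct.map φ (AlgHom.id A C) z := by
      intro z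
      induction z using TensorProduct.induction_on with
      | zero => simp
      | tmul a b => rfl
      | add a b ha hb => simp [ha, hb]
    rw [h1, hE]
    have h2 : (Algebra.TensorProduct.map φ (AlgHom.id A C)).comp
        (Algebra.TensorProduct.includeRight : C →ₐ[A] S ⊗[A] C) =
        (Algebra.TensorProduct.includeRight : C →ₐ[A] S' ⊗[A] C) := by
      ext c; simp
    rw [h2, ← LinearMap.comp_apply, ← LinearMap.comp_apply, ← LinearMap.rTensor_comp,
      ← LinearMap.rTensor_comp]
    congr 2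

theorem ev_ofEv (E : ∀ (T : Type u) [CommSemiring T] [Algebra A T] (_ : C →ₐ[A] T), T ⊗[A] M → T)
    (hE : ∀ (T T' : Type u) [CommSemiring T] [Algebra A T] [CommSemiring T'] [Algebra A T']
      (h : T →ₐ[A] T') (g : C →ₐ[A] T) (x : T ⊗[A] M),
      h (E T g x) = E T' (h.comp g) (h.toLinearMap.rTensor M x))
    {T : Type u} [CommSemiring T] [Algebra A T] (g : C →ₐ[A] T) (x : T ⊗[A] M) :
    ev (ofEv E hE) g x = E T g x := by
  change mulMap g (E (T ⊗[A] C) Algebra.TensorProduct.includeRight
    ((Algebra.TensorProduct.includeLeft : T →ₐ[A] T ⊗[A] C).toLinearMap.rTensor M x)) = _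
  rw [hE, ← LinearMap.comp_apply, ← LinearMap.rTensor_comp]
  have h1 : (mulMap g).comp (Algebra.TensorProduct.includeRight : C →ₐ[A] T ⊗[A] C) = g := by
    ext c; simp
  have h2 : (mulMap g).toLinearMap ∘ₗ
      (Algebra.TensorProduct.includeLeft : T →ₐ[A] T ⊗[A] C).toLinearMap = LinearMap.id := by
    ext c; simp
  rw [h1, h2, LinearMap.rTensor_id, LinearMap.id_apply]

end Basic

section Alg

variable {A : Type u} [CommRing A] {B : Type u} [CommRing B] [Algebra A B]
  {C : Type u} [CommRing C] [Algebra A C]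

/-- base change of elements along an algebra map, as an algebra map. -/
noncomputable abbrev bc (B : Type u) [CommRing B] [Algebra A B] {T T' : Type u} [CommSemiring T] [Algebra A T]
    [CommSemiring T'] [Algebra A T'] (h : T →ₐ[A] T') : T ⊗[A] B →ₐ[A] T' ⊗[A] B :=
  Algebra.TensorProduct.map h (AlgHom.id A B)

theorem rTensor_eq_bc {T T' : Type u} [CommSemiring T] [Algebra A T] [CommSemiring T'] [Algebra A T']
    (h : T →ₐ[A] T') (x : T ⊗[A] B) : h.toLinearMap.rTensor B x = bc B h x := by
  induction x using TensorProduct.induction_on with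
  | zero => simp
  | tmul a b => rfl
  | add a b ha hb => simp [ha, hb]

theorem ev_map (F : B →ₚₗ[A] C) {T T' : Type u} [CommSemiring T] [Algebra A T] [CommSemiring T'] [Algebra A T']
    (h : T →ₐ[A] T') (g : C →ₐ[A] T) (x : T ⊗[A] B) :
    h (ev F g x) = ev F (h.comp g) (bc B h x) := by
  rw [ev_bc, rTensor_eq_bc]

theorem ev_one {F : B →ₚₗ[A] C} (hF : PolLaw.IsMult F) {T : Type u} [CommSemiring T] [Algebra A T]
    (g : C →ₐ[A] T) : ev F g 1 = 1 := by
  rw [ev, (hF T).1, map_one]

theorem ev_mul {F : B →ₚₗ[A] C} (hF : PolLaw.IsMult F) {T : Type u} [CommSemiring T] [Algebra A T]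
    (g : C →ₐ[A] T) (x y : T ⊗[A] B) : ev F g (x * y) = ev F g x * ev F g y := by
  rw [ev, (hF T).2, map_mul]; rfl

/-- Being in the kernel, in terms of values in commutative rings. -/
theorem mem_ker_iff_ev {F : B →ₚₗ[A] C} {b : B} :
    b ∈ PolLaw.ker F ↔ ∀ (T : Type u) [CommRing T] [Algebra A T] (g : C →ₐ[A] T) (x w : T ⊗[A] B),
      ev F g (x + w * (1 ⊗ₜ[A] b)) = ev F g x := by
  constructor
  · intro h T _ _ g x w
    rw [ev, h T x w]; rfl
  · intro h S _ _ x w
    obtain ⟨n, ψ, x', w', rfl, rfl⟩ := exists_lift_pair x w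
    have h1 : ψ.toLinearMap.rTensor B x' + ψ.toLinearMap.rTensor B w' * (1 ⊗ₜ[A] b) =
        ψ.toLinearMap.rTensor B (x' + w' * (1 ⊗ₜ[A] b)) := by
      simp only [rTensor_eq_bc, map_add, map_mul]
      simp
    rw [h1, ← F.isCompat_apply', ← F.isCompat_apply', toFun'_eq_ev F (x' + _), toFun'_eq_ev F x']
    congr 1
    simp only [rTensor_eq_bc, map_add, map_mul]
    have h2 : bc B (Algebra.TensorProduct.includeLeft : MvPolynomial (Fin n) A →ₐ[A] _ ⊗[A] C) (1 ⊗ₜ[A] b)
      = 1 ⊗ₜ[A] b := by rw [Algebra.TensorProduct.map_tmul, map_one]; rfl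
    rw [h2, h]

end Alg

end K757.Ev
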