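import Groth.Agent.ZeroCyc.K757.TSFree

/-!
# Symmetric tensors of a free algebra: basis, retraction, universal law
-/

set_option autoImplicit false
universe u
open scoped TensorProduct
open K757.Ev K757.Coeff K757.TSFree

namespace K757.TSBasis

variable {A : Type u} [CommRing A] {B : Type u} [CommRing B] [Algebra A B]

section Gen

variable {d : ℕ}

lemma exists_mult_eq {ι : Type u} : ∀ {d : ℕ} {α : ι →₀ ℕ}, α.degree = d → ∃ c : Fin d → ι, mult c = α := by
  classical
  intro d
  induction d with
  | zero =>
      intro α hα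
      refine ⟨Fin.elim0, ?_⟩
      rw [Finsupp.degree_eq_zero_iff] at hα
      rw [hα, mult]; simp
  | succ d ih =>
      intro α hα
      have hne : α ≠ 0 := by
        rintro rfl
        simp at hα
      obtain ⟨i, hi⟩ := Finsupp.ne_iff.mp hne
      have h1 : Finsupp.single i 1 ≤ α := by
        rw [Finsupp.single_le_iff]
        exact Nat.one_le_iff_ne_zero.mpr hi
      have h2 : (α - Finsupp.single i 1).degree = d := by
        have := congr_arg Finsupp.degree (add_tsub_cancel_of_le h1)
        rw [map_add, Finsupp.degree_single, hα] at this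
        omega
      obtain ⟨c, hc⟩ := ih h2
      refine ⟨Fin.cons i c, ?_⟩
      rw [mult, Fin.sum_univ_succ]
      simp only [Fin.cons_zero, Fin.cons_succ]
      change Finsupp.single i 1 + mult c = α
      rw [hc, add_tsub_cancel_of_le h1]

/-- coefficients of the tensor-power law are symmetric. -/
theorem cf_tpow_mem {ι : Type u} (e : ι → B) (α : ι →₀ ℕ) :
    cf (SymTen.tpowLaw A B d).law e α ∈ SymTen.TS A B d := by
  rw [SymTen.mem_TS_iff]
  intro σ
  rw [← SymTen.perm_apply]
  change (SymTen.perm A B d σ).toLinearMap _ = _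
  rw [← cf_postcomp (SymTen.tpowLaw A B d).homog, postcomp_perm_tpow]

/-- the coefficient of the tensor-power law, as a symmetric tensor. -/
noncomputable def cTS {ι : Type u} (d : ℕ) (e : ι → B) (α : ι →₀ ℕ) : SymTen.TS A B d :=
  ⟨cf (SymTen.tpowLaw A B d).law e α, cf_tpow_mem e α⟩

end Gen

section Free

variable {ι : Type u} (b : Module.Basis ι A B) (d : ℕ)

/-- the basis of the tensor power. -/
noncomputable abbrev bQ : Module.Basis (Fin d → ι) A (⨂[A] _ : Fin d, B) :=
  Basis.piTensorProduct (fun _ : Fin d => b)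

lemma bQ_apply (c : Fin d → ι) : bQ b d c = PiTensorProduct.tprod A (fun k => b (c k)) :=
  Basis.piTensorProduct_apply _ _

open Classical in
lemma repr_cf (α : ι →₀ ℕ) (c : Fin d → ι) :
    (bQ b d).repr (cf (SymTen.tpowLaw A B d).law b α) c = if mult c = α then 1 else 0 := by
  rw [cf_tpow, map_sum, Finsupp.finsetSum_apply]
  simp_rw [← bQ_apply, Module.Basis.repr_self, Finsupp.single_apply]
  rw [Finset.sum_ite_eq']
  congr 1
  rw [eq_iff_iff, Finset.mem_filter, Fintype.mem_piFinset]
  constructor
  · exact fun h => h.2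
  · rintro rfl
    exact ⟨fun k => mem_support_mult c k, rfl⟩

lemma repr_perm (σ : Equiv.Perm (Fin d)) (z : ⨂[A] _ : Fin d, B) (c : Fin d → ι) :
    (bQ b d).repr (SymTen.perm A B d σ z) c = (bQ b d).repr z (c ∘ σ) := by
  classical
  have h : (Finsupp.lapply c ∘ₗ (bQ b d).repr.toLinearMap ∘ₗ (SymTen.perm A B d σ).toLinearMap) =
      Finsupp.lapply (c ∘ σ) ∘ₗ (bQ b d).repr.toLinearMap := by
    refine (bQ b d).ext fun c' => ?_
    simp only [LinearMap.comp_apply, Finsupp.lapply_apply, LinearEquiv.coe_coe, AlgHom.toLinearMap_apply]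
    rw [bQ_apply b d c', SymTen.perm_tprod, ← bQ_apply b d c']
    have : (PiTensorProduct.tprod A fun i => b (c' (σ.symm i))) = bQ b d (c' ∘ σ.symm) := by
      rw [bQ_apply]; rfl
    rw [this, Module.Basis.repr_self, Module.Basis.repr_self, Finsupp.single_apply, Finsupp.single_apply]
    congr 1
    rw [eq_iff_iff, Equiv.comp_symm_eq]
  exact LinearMap.congr_fun h z

lemma repr_TS {z : ⨂[A] _ : Fin d, B} (hz : z ∈ SymTen.TS A B d) {c c' : Fin d → ι} (h : mult c = mult c') :
    (bQ b d).repr z c = (bQ b d).repr z c' := by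
  obtain ⟨σ, rfl⟩ := exists_perm_of_mult_eq h
  rw [← repr_perm, SymTen.perm_apply, (SymTen.mem_TS_iff A B d z).mp hz σ]

open Classical in
/-- the retraction of the tensor power onto the symmetric tensors. -/
noncomputable def retr : (⨂[A] _ : Fin d, B) →ₗ[A] SymTen.TS A B d :=
  (bQ b d).constr A (fun c => if rep c = c then cTS d b (mult c) else 0)

lemma repr_constr {N : Type u} [AddCommGroup N] [Module A N] (f : (Fin d → ι) → N) (z : ⨂[A] _ : Fin d, B) :
    (bQ b d).constr A f z = ((bQ b d).repr z).sum fun c a => a • f c := by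
  rw [Module.Basis.constr_apply]

theorem retr_val (z : SymTen.TS A B d) : retr b d z.1 = z := by
  classical
  apply Subtype.ext
  refine (bQ b d).ext_elem fun c' => ?_
  rw [retr, repr_constr, Finsupp.sum]
  rw [AddSubmonoidClass.coe_finsetSum, map_sum, Finsupp.finsetSum_apply]
  have h : ∀ c ∈ ((bQ b d).repr z.1).support,
      (bQ b d).repr (((((bQ b d).repr z.1) c • if rep c = c then cTS d b (mult c) else 0 : SymTen.TS A B d)) :
        ⨂[A] _ : Fin d, B) c' = if c = rep c' then ((bQ b d).repr z.1) (rep c') else 0 := by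
    intro c _
    split_ifs with h1 h2 h2
    · rw [SetLike.val_smul, map_smul, Finsupp.smul_apply, cTS]
      simp only
      rw [repr_cf, h2, mult_rep, if_pos rfl, smul_eq_mul, mul_one]
    · rw [SetLike.val_smul, map_smul, Finsupp.smul_apply, cTS]
      simp only
      rw [repr_cf, if_neg, smul_zero]
      intro h3
      exact h2 (by rw [← h1]; exact rep_congr h3.symm)
    · exact absurd (by rw [h2, rep_rep]) h1
    · simp
  rw [Finset.sum_congr rfl h, Finset.sum_ite_eq']
  split_ifs with h1
  · exact repr_TS b d z.2 (mult_rep c')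
  · rw [Finsupp.notMem_support_iff] at h1
    rw [← repr_TS b d z.2 (mult_rep c'), h1]

theorem retr_cf (α : ι →₀ ℕ) : retr b d (cf (SymTen.tpowLaw A B d).law b α) = cTS d b α :=
  retr_val b d (cTS d b α)

/-- the symmetric tensors are spanned by the coefficients of the tensor power law. -/
theorem span_cTS : Submodule.span A (Set.range (cTS (A := A) d b)) = ⊤ := by
  classical
  rw [eq_top_iff]
  intro z _
  rw [← retr_val b d z, retr, repr_constr]
  refine Submodule.sum_mem _ fun c _ => Submodule.smul_mem _ _ ?_
  split_ifs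
  · exact Submodule.subset_span ⟨_, rfl⟩
  · exact Submodule.zero_mem _

/-- the inclusion of the symmetric tensors remains injective after base change. -/
theorem lTensor_val_injective (b : Module.Basis ι A B) (d : ℕ) (S : Type u) [AddCommMonoid S] [Module A S] :
    Function.Injective ((SymTen.TS A B d).val.toLinearMap.lTensor S) := by
  have h : (retr b d) ∘ₗ (SymTen.TS A B d).val.toLinearMap = LinearMap.id := by
    ext z
    exact congr_arg Subtype.val (retr_val b d z)
  refine Function.LeftInverse.injective (g := (retr b d).lTensor S) fun z => ?_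
  rw [← LinearMap.comp_apply, ← LinearMap.lTensor_comp, h, LinearMap.lTensor_id, LinearMap.id_apply]

theorem val_retr_tpow : PolLaw.postcomp (SymTen.TS A B d).val.toLinearMap
    (PolLaw.postcomp (retr b d) (SymTen.tpowLaw A B d).law) = (SymTen.tpowLaw A B d).law := by
  have h1 := isHomog_postcomp (SymTen.tpowLaw A B d).homog (retr b d)
  refine ext_cf (isHomog_postcomp h1 _) (SymTen.tpowLaw A B d).homog b.span_eq fun α => ?_
  rw [cf_postcomp h1, cf_postcomp (SymTen.tpowLaw A B d).homog, retr_cf]
  rfl

/-- the universal law `B → TS^d(B)` for `B` free. -/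
noncomputable def uLaw : PolLaw.MulLaw A B (SymTen.TS A B d) d where
  law := PolLaw.postcomp (retr b d) (SymTen.tpowLaw A B d).law
  homog := isHomog_postcomp (SymTen.tpowLaw A B d).homog (retr b d)
  mult S _ _ := by
    have hinj := lTensor_val_injective b d S
    have hval : ∀ x, (SymTen.TS A B d).val.toLinearMap.lTensor S
        ((PolLaw.postcomp (retr b d) (SymTen.tpowLaw A B d).law).toFun' S x) =
        (SymTen.tpowLaw A B d).law.toFun' S x := fun x => by
      conv_rhs => rw [← val_retr_tpow b d]
      rfl
    refine ⟨hinj ?_, fun x y => hinj ?_⟩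
    · rw [hval, ((SymTen.tpowLaw A B d).mult S).1, PolLaw.lTensor_algHom_apply, map_one]
    · rw [hval, ((SymTen.tpowLaw A B d).mult S).2, PolLaw.lTensor_algHom_apply, map_mul,
        ← PolLaw.lTensor_algHom_apply, ← PolLaw.lTensor_algHom_apply, hval, hval]

theorem uLaw_val : PolLaw.postcomp (SymTen.TS A B d).val.toLinearMap (uLaw b d).law = (SymTen.tpowLaw A B d).law :=
  val_retr_tpow b d

theorem cf_uLaw (α : ι →₀ ℕ) : cf (uLaw b d).law b α = cTS d b α := by
  rw [uLaw, cf_postcomp (SymTen.tpowLaw A B d).homog, retr_cf]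

variable {d} {C : Type u} [CommRing C] [Algebra A C] (F : PolLaw.MulLaw A B C d)

open Classical in
/-- the linear map `TS^d(B) → C` attached to a law. -/
noncomputable def liftLin : SymTen.TS A B d →ₗ[A] C :=
  ((bQ b d).constr A (fun c => if rep c = c then cf F.law b (mult c) else 0)) ∘ₗ (SymTen.TS A B d).val.toLinearMap

theorem liftLin_cTS (α : ι →₀ ℕ) : liftLin b F (cTS d b α) = cf F.law b α := by
  classical
  by_cases hα : α.degree = d
  · obtain ⟨c₀, hc₀⟩ := exists_mult_eq hα
    change (bQ b d).constr A _ (cf (SymTen.tpowLaw A B d).law b α) = _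
    rw [cf_tpow, map_sum]
    simp_rw [← bQ_apply, Module.Basis.constr_basis]
    rw [Finset.sum_eq_single (rep c₀)]
    · rw [rep_rep, if_pos rfl, mult_rep, hc₀]
    · intro c hc hne
      rw [Finset.mem_filter] at hc
      rw [if_neg]
      intro h
      exact hne (by rw [← h]; exact rep_congr (hc.2.trans hc₀.symm))
    · intro h
      exfalso
      apply h
      rw [Finset.mem_filter, Fintype.mem_piFinset]
      refine ⟨fun k => ?_, (mult_rep c₀).trans hc₀⟩
      rw [← hc₀, ← mult_rep c₀]
      exact mem_support_mult _ k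
  · have h0 : cTS (A := A) d b α = 0 := Subtype.ext (cf_eq_zero (SymTen.tpowLaw A B d).homog b hα)
    rw [h0, map_zero, cf_eq_zero F.homog b hα]

theorem postcomp_liftLin : PolLaw.postcomp (liftLin b F) (uLaw b d).law = F.law := by
  refine ext_cf (isHomog_postcomp (uLaw b d).homog _) F.homog b.span_eq fun α => ?_
  rw [cf_postcomp (uLaw b d).homog, cf_uLaw, liftLin_cTS]

theorem liftLin_mul (x y : SymTen.TS A B d) : liftLin b F (x * y) = liftLin b F x * liftLin b F y := by
  classical
  have key : ∀ α β : ι →₀ ℕ, liftLin b F (cTS d b α * cTS d b β) = liftLin b F (cTS d b α) * liftLin b F (cTS d b β) := by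
    intro α β
    rw [liftLin_cTS, liftLin_cTS, ← cf_uLaw, ← cf_uLaw]
    have hα : α.support ⊆ α.support ∪ β.support := Finset.subset_union_left
    have hβ : β.support ⊆ α.support ∪ β.support := Finset.subset_union_right
    rw [← coeff_genMul (uLaw b d).mult b _ hα hβ, ← coeff_genMul F.mult b _ hα hβ, ← coeff_ev_postcomp,
      postcomp_liftLin]
  have hx : x ∈ Submodule.span A (Set.range (cTS (A := A) d b)) := by rw [span_cTS]; trivial
  have hy : y ∈ Submodule.span A (Set.range (cTS (A := A) d b)) := by rw [span_cTS]; trivial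
  induction hx using Submodule.span_induction with
  | zero => simp
  | add x x' _ _ hx hx' => rw [add_mul, map_add, map_add, add_mul, hx, hx']
  | smul a x _ hx => rw [smul_mul_assoc, map_smul, map_smul, smul_mul_assoc, hx]
  | mem x hx =>
    obtain ⟨α, rfl⟩ := hx
    induction hy using Submodule.span_induction with
    | zero => simp
    | add x x' _ _ hx hx' => rw [mul_add, map_add, map_add, mul_add, hx, hx']
    | smul a x _ hx => rw [mul_smul_comm, map_smul, map_smul, mul_smul_comm, hx]
    | mem y hy =>
      obtain ⟨β, rfl⟩ := hy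
      exact key α β

theorem liftLin_one : liftLin b F 1 = 1 := by
  have h := (F.mult A).1
  rw [← postcomp_liftLin b F] at h
  change (liftLin b F).lTensor A ((uLaw b d).law.toFun' A 1) = 1 at h
  rw [((uLaw b d).mult A).1, Algebra.TensorProduct.one_def, LinearMap.lTensor_tmul] at h
  have h2 := congr_arg (TensorProduct.lid A C) h
  rw [TensorProduct.lid_tmul, one_smul, Algebra.TensorProduct.one_def, TensorProduct.lid_tmul, one_smul] at h2
  exact h2

/-- the algebra map `TS^d(B) → C` attached to a law on a free algebra. -/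
noncomputable def liftAlg : SymTen.TS A B d →ₐ[A] C :=
  AlgHom.ofLinearMap (liftLin b F) (liftLin_one b F) (liftLin_mul b F)

theorem postcomp_liftAlg : PolLaw.postcomp (liftAlg b F).toLinearMap (uLaw b d).law = F.law :=
  postcomp_liftLin b F

theorem isGammaD_uLaw : PolLaw.IsGammaD (uLaw b d) := by
  intro C' _ _ F
  refine ⟨liftAlg b F, postcomp_liftAlg b F, fun f hf => ?_⟩
  apply AlgHom.toLinearMap_injective
  refine LinearMap.ext_on_range (v := cTS (A := A) d b) (span_cTS b d) fun α => ?_
  rw [← cf_uLaw, ← cf_postcomp (uLaw b d).homog, ← cf_postcomp (uLaw b d).homog, postcomp_liftAlg]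
  exact congr_arg (fun G => cf G b α) hf

end Free

end K757.TSBasis
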