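import Groth.Agent.ZeroCyc.K757.Factor
import Groth.Agent.ZeroCyc.K757.TSBasis
import Mathlib.RingTheory.Ideal.Quotient.Operations
import Mathlib.Algebra.TrivSqZeroExt.Basic

/-!
# Existence of the divided power algebra `Γ^d_A(B)` for an arbitrary algebra `B`
-/

set_option autoImplicit false
universe u
open scoped TensorProduct
open K757.Ev K757.Coeff K757.TSFree K757.TSBasis K757.Factor

namespace K757.Exists

theorem map_bc {A : Type u} [CommRing A] {B B' : Type u} [CommRing B] [Algebra A B] [CommRing B'] [Algebra A B']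
    (π : B' →ₐ[A] B) {T T' : Type u} [CommRing T] [Algebra A T] [CommRing T'] [Algebra A T'] (h : T →ₐ[A] T')
    (y : T ⊗[A] B') : Algebra.TensorProduct.map (AlgHom.id A T') π (bc B' h y) =
      bc B h (Algebra.TensorProduct.map (AlgHom.id A T) π y) := by
  rw [← AlgHom.comp_apply, ← AlgHom.comp_apply]
  congr 1
  ext <;> simp

theorem postcomp_postcomp {A : Type u} [CommRing A] {M N N' N'' : Type u} [AddCommGroup M] [Module A M] [AddCommGroup N]
    [Module A N] [AddCommGroup N'] [Module A N'] [AddCommGroup N''] [Module A N''] (F : M →ₚₗ[A] N) (f : N →ₗ[A] N')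
    (g : N' →ₗ[A] N'') : PolLaw.postcomp g (PolLaw.postcomp f F) = PolLaw.postcomp (g ∘ₗ f) F := by
  refine PolynomialLaw.ext ?_
  funext S _ _ x
  change g.lTensor S (f.lTensor S (F.toFun' S x)) = (g ∘ₗ f).lTensor S (F.toFun' S x)
  rw [LinearMap.lTensor_comp]; rfl

open Classical in
/-- the value of a linear map at a coefficient, in terms of the composed law. -/
theorem apply_cf {A : Type u} [CommRing A] {M N : Type u} [AddCommGroup M] [Module A M] [AddCommGroup N] [Module A N]
    {C : Type u} [CommRing C] [Algebra A C] {F : M →ₚₗ[A] C} {d : ℕ} (hF : PolLaw.IsHomog F d) (f : C →ₗ[A] N)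
    {ι : Type u} (e : ι → M) (α : ι →₀ ℕ) :
    f (cf F e α) = TensorProduct.lid A N ((MvPolynomial.lcoeff A α).rTensor N
      ((PolLaw.postcomp f F).toFun' (MvPolynomial ι A) (∑ i ∈ α.support, (MvPolynomial.X i : MvPolynomial ι A) ⊗ₜ[A] e i))) := by
  change _ = TensorProduct.lid A N ((MvPolynomial.lcoeff A α).rTensor N
      (f.lTensor _ (F.toFun' (MvPolynomial ι A) (∑ i ∈ α.support, (MvPolynomial.X i : MvPolynomial ι A) ⊗ₜ[A] e i))))
  rw [toFun'_sum_eq hF, map_sum, map_sum, map_sum]
  have h : ∀ β : ι →₀ ℕ, TensorProduct.lid A N ((MvPolynomial.lcoeff A α).rTensor N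
      (f.lTensor _ ((β.prod fun i n => (MvPolynomial.X i : MvPolynomial ι A) ^ n) ⊗ₜ[A] cf F e β))) =
      if β = α then f (cf F e β) else 0 := by
    intro β
    have : (β.prod fun i n => (MvPolynomial.X i : MvPolynomial ι A) ^ n) = MvPolynomial.monomial β 1 := by
      rw [MvPolynomial.monomial_eq, MvPolynomial.C_1, one_mul]
    rw [LinearMap.lTensor_tmul, LinearMap.rTensor_tmul, TensorProduct.lid_tmul, this, MvPolynomial.lcoeff_apply,
      MvPolynomial.coeff_monomial]
    split_ifs <;> simp
  rw [Finset.sum_congr rfl fun β _ => h β, Finset.sum_ite_eq']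
  split_ifs with hα
  · rfl
  · rw [cf_eq_zero hF, map_zero]
    intro hd
    exact hα (Finset.mem_finsuppAntidiag'.mpr ⟨hd, Finset.Subset.refl _⟩)

section Quot

variable {A : Type u} [CommRing A] {P : Type u} [CommRing P] [Algebra A P] {B : Type u} [CommRing B] [Algebra A B]
  {d : ℕ} {D : Type u} [CommRing D] [Algebra A D] (u : PolLaw.MulLaw A P D d) (π : P →ₐ[A] B)

/-- relations: coefficients of `u(x + y) - u(x)` for `y` in the kernel. -/
def relSet : Set D :=
  {r | ∃ (κ : Type u) (x y : MvPolynomial κ A ⊗[A] P) (γ : κ →₀ ℕ),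
    Algebra.TensorProduct.map (AlgHom.id A (MvPolynomial κ A)) π y = 0 ∧
    r = (pv u.law (x + y)).coeff γ - (pv u.law x).coeff γ}

lemma cf_mul_mem_relSet {ι : Type u} (e : ι → P) (β : ι →₀ ℕ) {r : D} (hr : r ∈ relSet u π) :
    cf u.law e β * r ∈ relSet u π := by
  classical
  obtain ⟨κ, x, y, γ, hy, rfl⟩ := hr
  let z : MvPolynomial ι A ⊗[A] P := ∑ i ∈ β.support, (MvPolynomial.X i : MvPolynomial ι A) ⊗ₜ[A] e i
  have hz : (pv u.law z).coeff β = cf u.law e β := by
    rw [pv, ← rTensor_eq_bc, ← gen_eq_ev]; rfl
  let l : MvPolynomial ι A ⊗[A] P →ₐ[A] MvPolynomial (ι ⊕ κ) A ⊗[A] P := bc _ (MvPolynomial.rename Sum.inl)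
  let r : MvPolynomial κ A ⊗[A] P →ₐ[A] MvPolynomial (ι ⊕ κ) A ⊗[A] P := bc _ (MvPolynomial.rename Sum.inr)
  have key : ∀ x, cf u.law e β * (pv u.law x).coeff γ = (pv u.law (l z * r x)).coeff (pairI β γ) := by
    intro x
    rw [pv_mul u.mult, pv_rename, pv_rename, coeff_rename_mul', hz]
  refine ⟨ι ⊕ κ, l z * r x, l z * r y, pairI β γ, ?_, ?_⟩
  · rw [map_mul]
    have : Algebra.TensorProduct.map (AlgHom.id A (MvPolynomial (ι ⊕ κ) A)) π (r y) =
        bc B (MvPolynomial.rename Sum.inr) (Algebra.TensorProduct.map (AlgHom.id A (MvPolynomial κ A)) π y) :=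
      map_bc _ _ _
    rw [this, hy, map_zero, mul_zero]
  · rw [mul_sub, key, key, map_add, mul_add]

/-- spanning hypothesis: the coefficients of the law (on all elements) span the target. -/
def Spans : Prop := Submodule.span A (Set.range (cf u.law (id : P → P))) = ⊤

variable {u} (hu : Spans u)

/-- the ideal of relations; as an `A`-module it is already spanned by the relations. -/
def relIdeal : Ideal D where
  carrier := Submodule.span A (relSet u π)
  add_mem' := fun h h' => Submodule.add_mem _ h h'
  zero_mem' := Submodule.zero_mem _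
  smul_mem' := by
    intro c r hr
    have hc : c ∈ Submodule.span A (Set.range (cf u.law (id : P → P))) := by
      have : c ∈ (⊤ : Submodule A D) := trivial
      rwa [← hu] at this
    induction hc using Submodule.span_induction with
    | zero => rw [zero_smul]; exact Submodule.zero_mem _
    | add x x' _ _ hx hx' => rw [add_smul]; exact Submodule.add_mem _ hx hx'
    | smul a x _ hx => rw [smul_assoc]; exact Submodule.smul_mem _ a hx
    | mem x hx =>
      obtain ⟨β, rfl⟩ := hx
      have hr' : r ∈ Submodule.span A (relSet u π) := hr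
      change cf u.law id β • r ∈ Submodule.span A (relSet u π)
      induction hr' using Submodule.span_induction with
      | zero => rw [smul_zero]; exact Submodule.zero_mem _
      | add x x' _ _ hx hx' => rw [smul_add]; exact Submodule.add_mem _ (hx (by assumption)) (hx' (by assumption))
      | smul a x _ hx => rw [smul_comm]; exact Submodule.smul_mem _ a (hx (by assumption))
      | mem x hx => exact Submodule.subset_span (cf_mul_mem_relSet u π _ β hx)

lemma mem_relIdeal {r : D} : r ∈ relIdeal π hu ↔ r ∈ Submodule.span A (relSet u π) := Iff.rfl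

/-- the quotient. -/
abbrev GamOf : Type u := D ⧸ relIdeal π hu

/-- the quotient map. -/
noncomputable def qG : D →ₐ[A] GamOf π hu := Ideal.Quotient.mkₐ A (relIdeal π hu)

lemma qG_surjective : Function.Surjective (qG π hu) := Ideal.Quotient.mkₐ_surjective A _

lemma qG_eq_zero_iff {r : D} : qG π hu r = 0 ↔ r ∈ relIdeal π hu := Ideal.Quotient.eq_zero_iff_mem

variable (hπ : Function.Surjective π)

include hπ in
theorem exists_gamLaw : ∃ G : B →ₚₗ[A] GamOf π hu,
    PolLaw.precomp G π.toLinearMap = PolLaw.postcomp (qG π hu).toLinearMap u.law := by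
  refine exists_factor π.toLinearMap hπ _ fun κ x y => ?_
  set y' := (LinearMap.ker π.toLinearMap).subtype.lTensor (MvPolynomial κ A) y with hy'
  have hy0 : Algebra.TensorProduct.map (AlgHom.id A (MvPolynomial κ A)) π y' = 0 := by
    have h1 : π.toLinearMap.lTensor (MvPolynomial κ A) y' = 0 := by
      rw [hy', ← LinearMap.comp_apply, ← LinearMap.lTensor_comp]
      have : π.toLinearMap ∘ₗ (LinearMap.ker π.toLinearMap).subtype = 0 := by
        ext z; exact z.2
      rw [this]; simp
    rw [PolLaw.lTensor_algHom_apply] at h1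
    exact h1
  apply toP_injective
  rw [← pv_eq_toP, ← pv_eq_toP]
  ext γ
  rw [coeff_pv_postcomp, coeff_pv_postcomp, ← sub_eq_zero, ← map_sub]
  change qG π hu _ = 0
  rw [qG_eq_zero_iff, mem_relIdeal]
  exact Submodule.subset_span ⟨κ, x, y', γ, hy0, rfl⟩

/-- the law of `B` into the quotient. -/
noncomputable def gamOf : PolLaw.MulLaw A B (GamOf π hu) d where
  law := (exists_gamLaw π hu hπ).choose
  homog := isHomog_of_precomp π.toLinearMap hπ (by
    rw [(exists_gamLaw π hu hπ).choose_spec]
    exact isHomog_postcomp u.homog _)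
  mult := isMult_of_precomp π hπ (by
    rw [(exists_gamLaw π hu hπ).choose_spec]
    exact (PolLaw.MulLaw.postcomp (qG π hu) u).mult)

theorem gamOf_precomp : PolLaw.precomp (gamOf π hu hπ).law π.toLinearMap =
    PolLaw.postcomp (qG π hu).toLinearMap u.law := (exists_gamLaw π hu hπ).choose_spec

/-- the coefficients of the law span the quotient. -/
theorem span_cf_gamOf {ι : Type u} {e : ι → B} (he : Submodule.span A (Set.range e) = ⊤) :
    Submodule.span A (Set.range (cf (gamOf π hu hπ).law e)) = ⊤ := by
  rw [eq_top_iff]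
  intro z _
  obtain ⟨w, rfl⟩ := qG_surjective π hu z
  have hw : w ∈ Submodule.span A (Set.range (cf u.law (id : P → P))) := by
    have : w ∈ (⊤ : Submodule A D) := trivial
    rwa [← hu] at this
  induction hw using Submodule.span_induction with
  | zero => rw [map_zero]; exact Submodule.zero_mem _
  | add x x' _ _ hx hx' => rw [map_add]; exact Submodule.add_mem _ (hx trivial) (hx' trivial)
  | smul a x _ hx => rw [map_smul]; exact Submodule.smul_mem _ _ (hx trivial)
  | mem x hx =>
    obtain ⟨α, rfl⟩ := hx
    change (qG π hu).toLinearMap _ ∈ _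
    rw [← cf_postcomp u.homog, ← gamOf_precomp π hu hπ, cf_precomp]
    exact cf_mem_span (gamOf π hu hπ).homog he _ _

/-- linear maps out of the quotient agree when they agree on the law. -/
theorem linear_extOf {N : Type u} [AddCommGroup N] [Module A N] {f g : GamOf π hu →ₗ[A] N}
    (h : PolLaw.postcomp f (gamOf π hu hπ).law = PolLaw.postcomp g (gamOf π hu hπ).law) : f = g := by
  have hid : Submodule.span A (Set.range (id : B → B)) = ⊤ := by simp
  refine LinearMap.ext_on_range (v := cf (gamOf π hu hπ).law id) (span_cf_gamOf π hu hπ hid) fun α => ?_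
  rw [apply_cf (gamOf π hu hπ).homog, apply_cf (gamOf π hu hπ).homog, h]

/-- Universal property for homogeneous laws with values in modules. -/
def IsLinGamma (u : PolLaw.MulLaw A P D d) : Prop :=
  ∀ (N : Type u) [AddCommGroup N] [Module A N] (F : P →ₚₗ[A] N), PolLaw.IsHomog F d →
    ∃! f : D →ₗ[A] N, PolLaw.postcomp f u.law = F

theorem gamOf_isLinGamma (hlin : IsLinGamma u) : IsLinGamma (gamOf π hu hπ) := by
  intro N _ _ F hF
  have hF' : PolLaw.IsHomog (PolLaw.precomp F π.toLinearMap) d := by
    intro S _ _ s x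
    change F.toFun' S (π.toLinearMap.lTensor S (s • x)) = s ^ d • F.toFun' S (π.toLinearMap.lTensor S x)
    rw [PolLaw.lTensor_algHom_apply, map_smul, ← PolLaw.lTensor_algHom_apply, hF S]
  obtain ⟨f, hf, -⟩ := hlin N (PolLaw.precomp F π.toLinearMap) hF'
  have hker : ∀ r ∈ Submodule.span A (relSet u π), f r = 0 := by
    intro r hr
    induction hr using Submodule.span_induction with
    | zero => simp
    | add x x' _ _ hx hx' => rw [map_add, hx, hx', add_zero]
    | smul a x _ hx => rw [map_smul, hx, smul_zero]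
    | mem x hx =>
      obtain ⟨κ, x, y, γ, hy, rfl⟩ := hx
      rw [map_sub, sub_eq_zero]
      -- coefficients of values of `f ∘ u = F ∘ π`
      have hc : ∀ (z : MvPolynomial κ A ⊗[A] P), f ((pv u.law z).coeff γ) =
          TensorProduct.lid A N ((MvPolynomial.lcoeff A γ).rTensor N
            ((PolLaw.postcomp f u.law).toFun' (MvPolynomial κ A) z)) := by
        intro z
        change _ = TensorProduct.lid A N ((MvPolynomial.lcoeff A γ).rTensor N
            (f.lTensor _ (u.law.toFun' (MvPolynomial κ A) z)))
        rw [pv_eq_toP]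
        generalize u.law.toFun' (MvPolynomial κ A) z = w
        induction w using TensorProduct.induction_on with
        | zero => simp
        | tmul a b =>
            rw [toP_tmul, mul_comm, MvPolynomial.coeff_C_mul, coeff_polMap, mul_comm, ← Algebra.smul_def, map_smul,
              LinearMap.lTensor_tmul, LinearMap.rTensor_tmul, TensorProduct.lid_tmul, MvPolynomial.lcoeff_apply]
        | add a b ha hb => simp only [map_add, MvPolynomial.coeff_add, ha, hb]
      rw [hc, hc, hf]
      change _ = TensorProduct.lid A N ((MvPolynomial.lcoeff A γ).rTensor N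
        (F.toFun' (MvPolynomial κ A) (π.toLinearMap.lTensor _ x)))
      change TensorProduct.lid A N ((MvPolynomial.lcoeff A γ).rTensor N
        (F.toFun' (MvPolynomial κ A) (π.toLinearMap.lTensor _ (x + y)))) = _
      have hy' : π.toLinearMap.lTensor (MvPolynomial κ A) y = 0 := by
        rw [PolLaw.lTensor_algHom_apply]; exact hy
      rw [map_add, hy', add_zero]
  let f' : GamOf π hu →ₗ[A] N := Submodule.liftQ ((relIdeal π hu).restrictScalars A) f
    (fun r hr => hker r hr)
  have hf' : f' ∘ₗ (qG π hu).toLinearMap = f := by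
    ext r; rfl
  have h1 : PolLaw.postcomp f' (gamOf π hu hπ).law = F := by
    apply precomp_injective π.toLinearMap hπ
    have h1 : PolLaw.precomp (PolLaw.postcomp f' (gamOf π hu hπ).law) π.toLinearMap =
        PolLaw.postcomp f' (PolLaw.precomp (gamOf π hu hπ).law π.toLinearMap) := rfl
    rw [h1, gamOf_precomp, postcomp_postcomp, hf', hf]
  exact ⟨f', h1, fun g hg => linear_extOf π hu hπ (hg.trans h1.symm)⟩

/-- a linear universal property implies the multiplicative one. -/
theorem isGammaD_of_isLinGamma {u : PolLaw.MulLaw A P D d} (hlin : IsLinGamma u) (hs : Spans u) :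
    PolLaw.IsGammaD u := by
  intro C' _ _ F
  obtain ⟨f, hf, hfu⟩ := hlin C' F.law F.homog
  have h1 : f 1 = 1 := by
    have h := (F.mult A).1
    rw [← hf] at h
    change f.lTensor A (u.law.toFun' A 1) = 1 at h
    rw [(u.mult A).1, Algebra.TensorProduct.one_def, LinearMap.lTensor_tmul] at h
    have h2 := congr_arg (TensorProduct.lid A C') h
    rw [TensorProduct.lid_tmul, one_smul, Algebra.TensorProduct.one_def, TensorProduct.lid_tmul, one_smul] at h2
    exact h2
  have hmul : ∀ x y : D, f (x * y) = f x * f y := by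
    classical
    have key : ∀ α β : P →₀ ℕ, f (cf u.law id α * cf u.law id β) = f (cf u.law id α) * f (cf u.law id β) := by
      intro α β
      rw [← cf_postcomp u.homog, ← cf_postcomp u.homog, hf]
      have hα : α.support ⊆ α.support ∪ β.support := Finset.subset_union_left
      have hβ : β.support ⊆ α.support ∪ β.support := Finset.subset_union_right
      rw [← coeff_genMul u.mult id _ hα hβ, ← coeff_genMul F.mult id _ hα hβ, ← coeff_ev_postcomp, hf]
    intro x y
    have hx : x ∈ Submodule.span A (Set.range (cf u.law (id : P → P))) := by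
      have : x ∈ (⊤ : Submodule A D) := trivial
      rwa [← hs] at this
    have hy : y ∈ Submodule.span A (Set.range (cf u.law (id : P → P))) := by
      have : y ∈ (⊤ : Submodule A D) := trivial
      rwa [← hs] at this
    induction hx using Submodule.span_induction with
    | zero => simp
    | add x x' _ _ hx hx' => rw [add_mul, map_add, map_add, add_mul, hx, hx']
    | smul a x _ hx => rw [smul_mul_assoc, map_smul, map_smul, smul_mul_assoc, hx]
    | mem x hx =>
      obtain ⟨α, rfl⟩ := hx
      induction hy using Submodule.span_induction with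
      | zero => simp
      | add x x' _ _ hx hx' => rw [mul_add, map_add, map_add, mul_add, hx, hx']
      | smul a x _ hx => rw [mul_smul_comm, map_smul, map_smul, mul_smul_comm, hx]
      | mem y hy =>
        obtain ⟨β, rfl⟩ := hy
        exact key α β
  refine ⟨AlgHom.ofLinearMap f h1 hmul, hf, fun g hg => ?_⟩
  apply AlgHom.toLinearMap_injective
  exact hfu g.toLinearMap hg

end Quot

section Model

variable (A : Type u) [CommRing A] (B : Type u) [CommRing B] [Algebra A B] (d : ℕ)

/-- the polynomial ring on the elements of `B` maps onto `B`. -/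
noncomputable def pr : MvPolynomial B A →ₐ[A] B := MvPolynomial.aeval id

lemma pr_surjective : Function.Surjective (pr A B) := fun b => ⟨MvPolynomial.X b, MvPolynomial.aeval_X id b⟩

/-- the monomial basis. -/
noncomputable abbrev bP : Module.Basis (B →₀ ℕ) A (MvPolynomial B A) := MvPolynomial.basisMonomials B A

/-- symmetric tensors of the polynomial ring. -/
noncomputable abbrev TSP : Subalgebra A (⨂[A] _ : Fin d, MvPolynomial B A) := SymTen.TS A (MvPolynomial B A) d

/-- the universal law of the polynomial ring. -/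
noncomputable abbrev uP : PolLaw.MulLaw A (MvPolynomial B A) (TSP A B d) d := uLaw (bP A B) d

theorem spans_uLaw {A P : Type u} [CommRing A] [CommRing P] [Algebra A P] {ι : Type u} (b : Module.Basis ι A P) (d : ℕ) :
    Spans (uLaw b d) := by
  have h1 : Submodule.span A (Set.range (cf (uLaw b d).law b)) = ⊤ := by
    have : cf (uLaw b d).law b = cTS d b := funext fun α => cf_uLaw b d α
    rw [this, span_cTS]
  rw [Spans, eq_top_iff, ← h1, Submodule.span_le]
  rintro _ ⟨α, rfl⟩
  exact cf_mem_span (uLaw b d).homog (e := (id : P → P)) (by simp) _ _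

/-- every module is a retract of a commutative algebra. -/
theorem exists_algebra_retract {A : Type u} [CommRing A] (N : Type u) [AddCommGroup N] [Module A N] :
    ∃ (C : Type u) (_ : CommRing C) (_ : Algebra A C) (i : N →ₗ[A] C) (p : C →ₗ[A] N), p ∘ₗ i = LinearMap.id := by
  let _ : Module Aᵐᵒᵖ N := Module.compHom N ((RingHom.id A).fromOpposite fun x y => mul_comm _ _)
  have _ : IsCentralScalar A N := ⟨fun r m => rfl⟩
  refine ⟨TrivSqZeroExt A N, inferInstance, inferInstance, TrivSqZeroExt.inrHom A N, TrivSqZeroExt.sndHom A N, ?_⟩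
  ext n
  simp

theorem exists_linear_lift {A P : Type u} [CommRing A] [CommRing P] [Algebra A P] {ι : Type u} (b : Module.Basis ι A P)
    {d : ℕ} {C : Type u} [CommRing C] [Algebra A C] (F : P →ₚₗ[A] C) (hF : PolLaw.IsHomog F d) :
    ∃ f : SymTen.TS A P d →ₗ[A] C, PolLaw.postcomp f (uLaw b d).law = F := by
  classical
  let f : SymTen.TS A P d →ₗ[A] C :=
    ((bQ b d).constr A (fun c => if rep c = c then cf F b (mult c) else 0)) ∘ₗ (SymTen.TS A P d).val.toLinearMap
  have hf : ∀ α, f (cTS d b α) = cf F b α := by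
    intro α
    by_cases hα : α.degree = d
    · obtain ⟨c₀, hc₀⟩ := exists_mult_eq hα
      change (bQ b d).constr A _ (cf (SymTen.tpowLaw A P d).law b α) = _
      rw [cf_tpow, map_sum]
      simp_rw [← bQ_apply, Module.Basis.constr_basis]
      rw [Finset.sum_eq_single (rep c₀)]
      · rw [rep_rep, if_pos rfl, mult_rep, hc₀]
      · intro c hc hne
        rw [Finset.mem_filter] at hc
        rw [if_neg]
        intro h
        exact hne (by rw [← h]; exact rep_congr (hc.2.trans hc₀.symm))
      · intro h
        exfalso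
        apply h
        rw [Finset.mem_filter, Fintype.mem_piFinset]
        refine ⟨fun k => ?_, (mult_rep c₀).trans hc₀⟩
        rw [← hc₀, ← mult_rep c₀]
        exact mem_support_mult _ k
    · have h0 : cTS (A := A) d b α = 0 := Subtype.ext (cf_eq_zero (SymTen.tpowLaw A P d).homog b hα)
      rw [h0, map_zero, cf_eq_zero hF b hα]
  refine ⟨f, ext_cf (isHomog_postcomp (uLaw b d).homog _) hF b.span_eq fun α => ?_⟩
  rw [cf_postcomp (uLaw b d).homog, cf_uLaw, hf]

theorem isLinGamma_uLaw {A P : Type u} [CommRing A] [CommRing P] [Algebra A P] {ι : Type u} (b : Module.Basis ι A P)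
    (d : ℕ) : IsLinGamma (uLaw b d) := by
  intro N _ _ F hF
  obtain ⟨C, _, _, i, p, hpi⟩ := exists_algebra_retract (A := A) N
  obtain ⟨f, hf⟩ := exists_linear_lift b (PolLaw.postcomp i F) (isHomog_postcomp hF i)
  have h1 : PolLaw.postcomp (p ∘ₗ f) (uLaw b d).law = F := by
    rw [← postcomp_postcomp, hf, postcomp_postcomp, hpi]
    refine PolynomialLaw.ext ?_
    funext S _ _ x
    change LinearMap.lTensor S LinearMap.id (F.toFun' S x) = _
    rw [LinearMap.lTensor_id]; rfl
  refine ⟨p ∘ₗ f, h1, fun g hg => ?_⟩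
  refine LinearMap.ext_on_range (v := cf (uLaw b d).law (id : P → P)) (spans_uLaw b d) fun α => ?_
  rw [apply_cf (uLaw b d).homog, apply_cf (uLaw b d).homog]
  rw [hg, h1]

/-- a model of `Γ^d_A(B)`. -/
def Gam : Type u := GamOf (pr A B) (spans_uLaw (bP A B) d)

noncomputable instance : CommRing (Gam A B d) := inferInstanceAs (CommRing (GamOf (pr A B) (spans_uLaw (bP A B) d)))

noncomputable instance : Algebra A (Gam A B d) := inferInstanceAs (Algebra A (GamOf (pr A B) (spans_uLaw (bP A B) d)))

/-- the universal law of `B`. -/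
noncomputable def gam : PolLaw.MulLaw A B (Gam A B d) d :=
  gamOf (pr A B) (spans_uLaw (bP A B) d) (pr_surjective A B)

theorem isLinGamma_gam : IsLinGamma (gam A B d) :=
  gamOf_isLinGamma (pr A B) (spans_uLaw (bP A B) d) (pr_surjective A B) (isLinGamma_uLaw (bP A B) d)

theorem span_cf_gam {ι : Type u} {e : ι → B} (he : Submodule.span A (Set.range e) = ⊤) :
    Submodule.span A (Set.range (cf (gam A B d).law e)) = ⊤ :=
  span_cf_gamOf (pr A B) (spans_uLaw (bP A B) d) (pr_surjective A B) he

theorem spans_gam : Spans (gam A B d) := span_cf_gam A B d (by simp)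

/-- **Existence of `Γ^d_A(B)`.** -/
theorem isGammaD_gam : PolLaw.IsGammaD (gam A B d) :=
  isGammaD_of_isLinGamma (isLinGamma_gam A B d) (spans_gam A B d)

end Model

section Any

variable {A : Type u} [CommRing A] {B : Type u} [CommRing B] [Algebra A B] {C : Type u} [CommRing C] [Algebra A C]
  {d : ℕ} {γ : PolLaw.MulLaw A B C d}

/-- any universal pair is isomorphic to the model. -/
theorem exists_equiv (hγ : PolLaw.IsGammaD γ) :
    ∃ e : Gam A B d ≃ₐ[A] C, PolLaw.postcomp (e : Gam A B d →ₐ[A] C).toLinearMap (gam A B d).law = γ.law := by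
  obtain ⟨f, hf, -⟩ := isGammaD_gam A B d C γ
  obtain ⟨g, hg, -⟩ := hγ (Gam A B d) (gam A B d)
  have h1 : g.comp f = AlgHom.id A _ := by
    obtain ⟨k, _, hk⟩ := isGammaD_gam A B d (Gam A B d) (gam A B d)
    rw [hk (g.comp f), hk (AlgHom.id A _)]
    · exact ext_ev fun T _ _ g x => by rw [ev_postcomp]; rfl
    · change PolLaw.postcomp (g.toLinearMap ∘ₗ f.toLinearMap) _ = _
      rw [← postcomp_postcomp, hf, hg]
  have h2 : f.comp g = AlgHom.id A _ := by
    obtain ⟨k, _, hk⟩ := hγ C γ
    rw [hk (f.comp g), hk (AlgHom.id A _)]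
    · exact ext_ev fun T _ _ g x => by rw [ev_postcomp]; rfl
    · change PolLaw.postcomp (f.toLinearMap ∘ₗ g.toLinearMap) _ = _
      rw [← postcomp_postcomp, hg, hf]
  exact ⟨AlgEquiv.ofAlgHom f g h2 h1, hf⟩

/-- `Γ^d_A(B)` is spanned by the coefficients of its universal law on any spanning family. -/
theorem span_cf (hγ : PolLaw.IsGammaD γ) {ι : Type u} {e : ι → B} (he : Submodule.span A (Set.range e) = ⊤) :
    Submodule.span A (Set.range (cf γ.law e)) = ⊤ := by
  obtain ⟨φ, hφ⟩ := exists_equiv hγ
  have h : cf γ.law e = (φ : Gam A B d →ₐ[A] C).toLinearMap ∘ cf (gam A B d).law e := by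
    funext α
    rw [Function.comp_apply, ← cf_postcomp (gam A B d).homog, hφ]
  rw [h, Set.range_comp, ← Submodule.map_span, span_cf_gam A B d he, Submodule.map_top]
  exact LinearMap.range_eq_top.mpr φ.surjective

/-- linear maps out of `Γ^d_A(B)` agree when they agree on the universal law. -/
theorem linear_ext' (hγ : PolLaw.IsGammaD γ) {N : Type u} [AddCommGroup N] [Module A N] {f g : C →ₗ[A] N}
    (h : PolLaw.postcomp f γ.law = PolLaw.postcomp g γ.law) : f = g := by
  have hid : Submodule.span A (Set.range (id : B → B)) = ⊤ := by simp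
  refine LinearMap.ext_on_range (v := cf γ.law id) (span_cf hγ hid) fun α => ?_
  rw [apply_cf γ.homog, apply_cf γ.homog, h]

/-- `Γ^d_A(B)` has the universal property for module-valued laws as well. -/
theorem isLinGamma (hγ : PolLaw.IsGammaD γ) : IsLinGamma γ := by
  obtain ⟨φ, hφ⟩ := exists_equiv hγ
  intro N _ _ F hF
  obtain ⟨f, hf, -⟩ := isLinGamma_gam A B d N F hF
  have h1 : PolLaw.postcomp (f ∘ₗ φ.symm.toLinearMap) γ.law = F := by
    rw [← hφ, postcomp_postcomp]
    have : (f ∘ₗ φ.symm.toLinearMap) ∘ₗ (φ : Gam A B d →ₐ[A] C).toLinearMap = f := by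
      ext z; simp
    rw [this, hf]
  exact ⟨_, h1, fun g hg => linear_ext' hγ (hg.trans h1.symm)⟩

end Any

end K757.Exists
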