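import Groth.Agent.ZeroCyc.K757.CharPoly
import Mathlib.Algebra.Polynomial.Roots
import Mathlib.Algebra.MvPolynomial.Funext

/-!
# The number of homomorphisms out of the image of a law is at most its degree
-/

set_option autoImplicit false
universe u
open scoped TensorProduct
open K757.Ev K757.Coeff K757.CH K757.Factor K757.Kr K757.CharPoly

namespace K757.Homs

variable {A : Type u} [CommRing A] {B : Type u} [CommRing B] [Algebra A B] {d : ℕ}

/-- every element of `A[X_κ] ⊗ B` is a sum of monomials times elements of `B`. -/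
theorem exists_eq_sum_monomial {κ : Type u} (y : MvPolynomial κ A ⊗[A] B) :
    ∃ (Γ : Finset (κ →₀ ℕ)) (z : (κ →₀ ℕ) → B), y = ∑ γ ∈ Γ, (MvPolynomial.monomial γ (1 : A)) ⊗ₜ[A] z γ := by
  classical
  suffices h : ∃ c : (κ →₀ ℕ) →₀ B, y = c.sum fun γ b => (MvPolynomial.monomial γ (1 : A)) ⊗ₜ[A] b by
    obtain ⟨c, hc⟩ := h
    exact ⟨c.support, c, hc⟩
  induction y using TensorProduct.induction_on with
  | zero => exact ⟨0, by simp⟩
  | tmul p b =>
    induction p using MvPolynomial.induction_on' with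
    | monomial γ a =>
      refine ⟨Finsupp.single γ (a • b), ?_⟩
      rw [Finsupp.sum_single_index (by rw [TensorProduct.tmul_zero]), TensorProduct.tmul_smul, TensorProduct.smul_tmul',
        MvPolynomial.smul_monomial, smul_eq_mul, mul_one]
    | add p q hp hq =>
      obtain ⟨c, hc⟩ := hp
      obtain ⟨c', hc'⟩ := hq
      refine ⟨c + c', ?_⟩
      have := Finsupp.sum_add_index' (f := c) (g := c')
        (h := fun γ b => (MvPolynomial.monomial γ (1 : A)) ⊗ₜ[A] b) (fun _ => TensorProduct.tmul_zero _ _)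
        (fun _ _ _ => TensorProduct.tmul_add _ _ _)
      rw [this, TensorProduct.add_tmul, hc, hc']
  | add x y hx hy =>
    obtain ⟨c, hc⟩ := hx
    obtain ⟨c', hc'⟩ := hy
    refine ⟨c + c', ?_⟩
    have := Finsupp.sum_add_index' (f := c) (g := c')
      (h := fun γ b => (MvPolynomial.monomial γ (1 : A)) ⊗ₜ[A] b) (fun _ => TensorProduct.tmul_zero _ _)
      (fun _ _ _ => TensorProduct.tmul_add _ _ _)
    rw [this, hc, hc']

/-- the coefficients of an element of the kernel over `A[X_κ]` are in the kernel. -/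
theorem exists_coeff_mem_ker (F : PolLaw.MulLaw A B A d) {κ : Type u} {y : MvPolynomial κ A ⊗[A] B}
    (hy : InKer F.law (cMap A A κ) y) :
    ∃ (Γ : Finset (κ →₀ ℕ)) (z : (κ →₀ ℕ) → B), y = ∑ γ ∈ Γ, (MvPolynomial.monomial γ (1 : A)) ⊗ₜ[A] z γ ∧
      ∀ γ ∈ Γ, z γ ∈ PolLaw.ker F.law := by
  obtain ⟨Γ, z, rfl⟩ := exists_eq_sum_monomial y
  refine ⟨Γ, z, rfl, fun γ hγ => ?_⟩
  apply mem_ker_of_inKer
  refine inKer_coeff (g := AlgHom.id A A) F.homog Γ (fun γ => 1 ⊗ₜ[A] z γ) ?_ hγ
  have h1 : ∑ γ ∈ Γ, (MvPolynomial.monomial γ (1 : A)) • bc B (cMap A A κ) ((1 : A) ⊗ₜ[A] z γ) =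
      ∑ γ ∈ Γ, (MvPolynomial.monomial γ (1 : A)) ⊗ₜ[A] z γ := by
    refine Finset.sum_congr rfl fun γ _ => ?_
    rw [Algebra.TensorProduct.map_tmul, map_one (cMap A A κ), TensorProduct.smul_tmul', smul_eq_mul, mul_one]
    rfl
  rw [AlgHom.comp_id, h1]
  exact hy

/-- **Bound on the number of homomorphisms.** A finite set of algebra maps `B → Ω` into a domain, killing the kernel of a
law of degree `d`, has at most `d` elements. -/
theorem card_le (F : PolLaw.MulLaw A B A d) {Ω : Type u} [CommRing Ω] [IsDomain Ω] [Algebra A Ω]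
    {n : ℕ} (σ : Fin n → (B →ₐ[A] Ω)) (hσ : Function.Injective σ)
    (hk : ∀ i, ∀ b ∈ PolLaw.ker F.law, σ i b = 0) : n ≤ d := by
  classical
  -- elements separating the maps
  have hsep : ∀ p : Fin n × Fin n, ∃ b : B, p.1 ≠ p.2 → σ p.1 b ≠ σ p.2 b := by
    intro p
    by_cases h : p.1 = p.2
    · exact ⟨0, fun h' => absurd h h'⟩
    · have : σ p.1 ≠ σ p.2 := fun h' => h (hσ h')
      obtain ⟨b, hb⟩ := DFunLike.ne_iff.mp this
      exact ⟨b, fun _ => hb⟩
  choose e he using hsep
  let κ : Type u := ULift.{u} (Fin n × Fin n)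
  let y : MvPolynomial κ A ⊗[A] B := ∑ p : κ, (MvPolynomial.X p : MvPolynomial κ A) ⊗ₜ[A] e p.down
  obtain ⟨Γ, z, hz, hzk⟩ := exists_coeff_mem_ker F (inKer_chB F (cMap A A κ) y)
  -- extension of `σ i` to `A[X] ⊗ B → Ω[X]`
  let τ : Fin n → (MvPolynomial κ A ⊗[A] B →ₐ[A] MvPolynomial κ Ω) := fun i =>
    Algebra.TensorProduct.productMap (polMap A Ω κ) ((cMap A Ω κ).comp (σ i))
  have hτ0 : ∀ i, τ i (chB F.law (cMap A A κ) y) = 0 := by
    intro i
    rw [hz, map_sum]
    refine Finset.sum_eq_zero fun γ hγ => ?_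
    simp only [τ, Algebra.TensorProduct.productMap_apply_tmul, AlgHom.comp_apply]
    rw [hk i _ (hzk γ hγ), map_zero, mul_zero]
  let P : Polynomial (MvPolynomial κ Ω) := (chi F.law (cMap A A κ) y).map (polMap A Ω κ : MvPolynomial κ A →+* MvPolynomial κ Ω)
  have hroot : ∀ i, P.eval (τ i y) = 0 := by
    intro i
    rw [← hτ0 i, ← aeval_chi]
    have h1 : ∀ q : Polynomial (MvPolynomial κ A), τ i (Polynomial.aeval y q) =
        (q.map (polMap A Ω κ : MvPolynomial κ A →+* MvPolynomial κ Ω)).eval (τ i y) := by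
      intro q
      rw [Polynomial.eval_map, Polynomial.aeval_def, Polynomial.eval₂_eq_sum_range, Polynomial.eval₂_eq_sum_range,
        map_sum]
      refine Finset.sum_congr rfl fun k _ => ?_
      rw [map_mul, map_pow]
      congr 1
      change τ i (q.coeff k ⊗ₜ[A] 1) = _
      simp [τ]
    rw [h1]
  have hy : ∀ i, τ i y = ∑ p : κ, MvPolynomial.X p * MvPolynomial.C (σ i (e p.down)) := by
    intro i
    simp only [y, map_sum, τ, Algebra.TensorProduct.productMap_apply_tmul, polMap_X, AlgHom.comp_apply, cMap_apply]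
  have hinj : Function.Injective fun i => τ i y := by
    intro i j hij
    by_contra hne
    simp only [hy] at hij
    have h1 := congr_arg (MvPolynomial.coeff (Finsupp.single (ULift.up (i, j) : κ) 1)) hij
    simp only [MvPolynomial.coeff_sum, mul_comm (MvPolynomial.X _), MvPolynomial.coeff_C_mul, MvPolynomial.coeff_X] at h1
    have h2 : ∀ l, (∑ p : κ, σ l (e p.down) * (if (Finsupp.single p 1 : κ →₀ ℕ) = Finsupp.single (ULift.up (i, j) : κ) 1
        then (1 : Ω) else 0)) = σ l (e (i, j)) := by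
      intro l
      rw [Finset.sum_eq_single (ULift.up (i, j) : κ)]
      · simp
      · intro p _ hp
        rw [if_neg, mul_zero]
        intro h
        exact hp (Finsupp.single_left_injective one_ne_zero h)
      · intro h; exact absurd (Finset.mem_univ _) h
    rw [h2, h2] at h1
    exact he (i, j) hne h1
  have hdeg : P.natDegree ≤ d := Polynomial.natDegree_map_le.trans (natDegree_chi_le _ _ F.homog)
  have hP0 : P ≠ 0 := by
    intro h
    have h1 : P.coeff d = (-1) ^ d := by
      rw [Polynomial.coeff_map, coeff_chi _ _ F.homog F.mult]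
      simp
    rw [h, Polynomial.coeff_zero] at h1
    exact (pow_ne_zero d (neg_ne_zero.mpr one_ne_zero)) h1.symm
  have h3 : (Finset.univ.image fun i => τ i y) ⊆ P.roots.toFinset := by
    intro q hq
    rw [Finset.mem_image] at hq
    obtain ⟨i, -, rfl⟩ := hq
    rw [Multiset.mem_toFinset, Polynomial.mem_roots hP0]
    exact hroot i
  have h4 := (Finset.card_le_card h3).trans ((Multiset.toFinset_card_le _).trans ((Polynomial.card_roots' P).trans hdeg))
  rwa [Finset.card_image_of_injective _ hinj, Finset.card_univ, Fintype.card_fin] at h4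

end K757.Homs
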