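import Groth.Agent.ZeroCyc.K757.CH
import Groth.Agent.ZeroCyc.K757.Factor
import Mathlib.Algebra.GroupWithZero.NonZeroDivisors
import Mathlib.Algebra.Polynomial.AlgebraMap

/-!
# The kernel of base-changed laws: saturation and coefficients of polynomials in the kernel
-/

set_option autoImplicit false
universe u
open scoped TensorProduct
open K757.Ev K757.Coeff K757.TSFree K757.TSBasis K757.CH K757.Factor

namespace K757.Kr

variable {A : Type u} [CommRing A] {B : Type u} [CommRing B] [Algebra A B]
  {C : Type u} [CommRing C] [Algebra A C]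

/-- `y ∈ T ⊗ B` lies in the kernel of the law base-changed along `g : C → T`. -/
def InKer (F : B →ₚₗ[A] C) {T : Type u} [CommRing T] [Algebra A T] (g : C →ₐ[A] T) (y : T ⊗[A] B) : Prop :=
  ∀ (T' : Type u) [CommRing T'] [Algebra A T'] (h : T →ₐ[A] T') (x w : T' ⊗[A] B),
    ev F (h.comp g) (x + w * bc B h y) = ev F (h.comp g) x

theorem bc_smul {T T' : Type u} [CommRing T] [Algebra A T] [CommRing T'] [Algebra A T'] (i : T →ₐ[A] T') (a : T)
    (y : T ⊗[A] B) : bc B i (a • y) = i a • bc B i y := by
  induction y using TensorProduct.induction_on with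
  | zero => simp
  | tmul s b => simp [TensorProduct.smul_tmul']
  | add x y hx hy => rw [smul_add, map_add, hx, hy, map_add, smul_add]

section Basic

variable {F : B →ₚₗ[A] C} {T : Type u} [CommRing T] [Algebra A T] {g : C →ₐ[A] T}

theorem InKer.zero : InKer F g 0 := fun T' _ _ h x w => by rw [map_zero, mul_zero, add_zero]

theorem InKer.add {y y' : T ⊗[A] B} (hy : InKer F g y) (hy' : InKer F g y') : InKer F g (y + y') :=
  fun T' _ _ h x w => by rw [map_add, mul_add, ← add_assoc, hy', hy]

theorem InKer.mul_left (a : T ⊗[A] B) {y : T ⊗[A] B} (hy : InKer F g y) : InKer F g (a * y) :=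
  fun T' _ _ h x w => by rw [map_mul, ← mul_assoc, hy]

theorem InKer.neg {y : T ⊗[A] B} (hy : InKer F g y) : InKer F g (-y) := by
  rw [← neg_one_mul]; exact hy.mul_left _

theorem InKer.sub {y y' : T ⊗[A] B} (hy : InKer F g y) (hy' : InKer F g y') : InKer F g (y - y') := by
  rw [sub_eq_add_neg]; exact hy.add hy'.neg

theorem InKer.bc {T₁ : Type u} [CommRing T₁] [Algebra A T₁] (k : T →ₐ[A] T₁) {y : T ⊗[A] B} (hy : InKer F g y) :
    InKer F (k.comp g) (bc B k y) := fun T' _ _ h x w => by
  rw [bc_bc, ← AlgHom.comp_assoc]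
  exact hy T' (h.comp k) x w

/-- the kernel of the law base-changed to `T`, as an ideal. -/
def kerI (F : B →ₚₗ[A] C) {T : Type u} [CommRing T] [Algebra A T] (g : C →ₐ[A] T) : Ideal (T ⊗[A] B) where
  carrier := {y | InKer F g y}
  add_mem' h h' := h.add h'
  zero_mem' := InKer.zero
  smul_mem' a _ h := h.mul_left a

theorem mem_kerI {y : T ⊗[A] B} : y ∈ kerI F g ↔ InKer F g y := Iff.rfl

theorem ev_add_of_inKer {y : T ⊗[A] B} (hy : InKer F g y) (x : T ⊗[A] B) : ev F g (x + y) = ev F g x := by
  have := hy T (AlgHom.id A T) x 1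
  rw [one_mul, AlgHom.id_comp] at this
  simpa using this

theorem ev_eq_of_sub_mem {x x' : T ⊗[A] B} (h : InKer F g (x - x')) : ev F g x = ev F g x' := by
  have := ev_add_of_inKer h x'
  rwa [add_sub_cancel] at this

theorem inKer_chB {d : ℕ} (F : PolLaw.MulLaw A B C d) (g : C →ₐ[A] T) (y : T ⊗[A] B) : InKer F.law g (chB F.law g y) :=
  fun T' _ _ h x w => by rw [chB_bc]; exact cayleyHamilton F _ _ _ _

theorem inKer_of_mem_ker {b : B} (hb : b ∈ PolLaw.ker F) : InKer F g (1 ⊗ₜ[A] b) := fun T' _ _ h x w => by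
  rw [mem_ker_iff_ev] at hb
  rw [Algebra.TensorProduct.map_tmul, map_one]
  exact hb T' _ x w

theorem mem_ker_of_inKer {F : B →ₚₗ[A] A} {b : B} (hb : InKer F (AlgHom.id A A) (1 ⊗ₜ[A] b)) : b ∈ PolLaw.ker F := by
  rw [mem_ker_iff_ev]
  intro T _ _ g x w
  have := hb T g x w
  rwa [Algebra.TensorProduct.map_tmul, map_one, AlgHom.comp_id] at this

theorem mem_ker_of_inKer' {F : B →ₚₗ[A] C} {b : B} (hb : InKer F (AlgHom.id A C) (1 ⊗ₜ[A] b)) : b ∈ PolLaw.ker F := by
  rw [mem_ker_iff_ev]
  intro T _ _ g x w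
  have := hb T g x w
  rwa [Algebra.TensorProduct.map_tmul, map_one, AlgHom.comp_id] at this

end Basic

section Sat

variable {F : B →ₚₗ[A] C} {d : ℕ} {T : Type u} [CommRing T] [Algebra A T] {g : C →ₐ[A] T}

/-- the kernel is saturated with respect to nonzerodivisors of the base. -/
theorem inKer_of_smul (hF : PolLaw.IsHomog F d) {a : T} (ha : ∀ t : T, a * t = 0 → t = 0) {y : T ⊗[A] B}
    (h : InKer F g (a • y)) : InKer F g y := by
  intro T' _ _ k x w
  -- a polynomial ring over `T` mapping onto `T'`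
  let R := MvPolynomial T' T
  let i : T →ₐ[A] R := cMap A T T'
  let p : R →ₐ[A] T' := evalHom k id
  have hp : Function.Surjective p := fun t => ⟨MvPolynomial.X t, evalHom_X k id t⟩
  have hpi : p.comp i = k := evalHom_comp_cMap k id
  have hpB : Function.Surjective (bc B p) := by
    intro z
    obtain ⟨z', hz'⟩ := LinearMap.rTensor_surjective B (g := p.toLinearMap) hp z
    exact ⟨z', by rw [← hz', rTensor_eq_bc]⟩
  obtain ⟨x, rfl⟩ := hpB x
  obtain ⟨w, rfl⟩ := hpB w
  have h1 : ev F (i.comp g) (x + w * bc B i y) = ev F (i.comp g) x := by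
    have h2 := h R i (i a • x) w
    have h3 : i a • x + w * bc B i (a • y) = i a • (x + w * bc B i y) := by
      rw [bc_smul, smul_add, mul_smul_comm]
    rw [h3, ev_smul hF, ev_smul hF, ← sub_eq_zero, ← mul_sub] at h2
    have hreg : ∀ q : R, i a * q = 0 → q = 0 := by
      intro q hq
      ext γ
      apply ha
      have := congr_arg (MvPolynomial.coeff γ) hq
      rwa [show i a = MvPolynomial.C a from rfl, MvPolynomial.coeff_C_mul, MvPolynomial.coeff_zero] at this
    have hregd : ∀ (n : ℕ) (q : R), i a ^ n * q = 0 → q = 0 := by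
      intro n
      induction n with
      | zero => intro q hq; rwa [pow_zero, one_mul] at hq
      | succ n ih => intro q hq; rw [pow_succ, mul_assoc] at hq; exact hreg _ (ih _ hq)
    exact sub_eq_zero.mp (hregd d _ h2)
  have h4 := congr_arg p h1
  rw [ev_map, ev_map, map_add, map_mul, bc_bc, hpi, ← AlgHom.comp_assoc, hpi] at h4
  exact h4

end Sat

section OneVar

variable {F : B →ₚₗ[A] C} {d : ℕ} {T : Type u} [CommRing T] [Algebra A T] {g : C →ₐ[A] T}

variable (A T) in
/-- `T → T[X]`. -/
noncomputable def cX : T →ₐ[A] Polynomial T := IsScalarTower.toAlgHom A T (Polynomial T)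

lemma cX_apply (t : T) : cX A T t = Polynomial.C t := rfl

/-- coefficients of an element of the kernel over `T[X]`. -/
theorem inKer_coeff_one (hF : PolLaw.IsHomog F d) (n : ℕ) : ∀ (z : ℕ → T ⊗[A] B),
    InKer F ((cX A T).comp g) (∑ k ∈ Finset.range n, (Polynomial.X ^ k : Polynomial T) • bc B (cX A T) (z k)) →
    ∀ k < n, InKer F g (z k) := by
  induction n with
  | zero => intro z _ k hk; exact absurd hk (Nat.not_lt_zero k)
  | succ n ih =>
    intro z hz
    let e : Polynomial T →ₐ[A] T := (Polynomial.aeval (0 : T)).restrictScalars A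
    have he : e.comp (cX A T) = AlgHom.id A T := by
      ext t
      simp [e, cX_apply]
    have he0 : e Polynomial.X = 0 := by simp [e]
    have h0 : InKer F g (z 0) := by
      have h1 := hz.bc e
      rw [← AlgHom.comp_assoc, he, AlgHom.id_comp, map_sum, Finset.sum_range_succ'] at h1
      have h2 : ∀ k ∈ Finset.range n,
          bc B e ((Polynomial.X ^ (k + 1) : Polynomial T) • bc B (cX A T) (z (k + 1))) = 0 := by
        intro k _
        rw [bc_smul, map_pow, he0, zero_pow (Nat.succ_ne_zero k), zero_smul]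
      rw [Finset.sum_eq_zero h2, zero_add, pow_zero, one_smul, bc_bc, he] at h1
      simpa using h1
    intro k hk
    rcases Nat.eq_zero_or_pos k with rfl | hk0
    · exact h0
    · obtain ⟨k, rfl⟩ := Nat.exists_eq_succ_of_ne_zero hk0.ne'
      refine ih (fun k => z (k + 1)) ?_ k (by omega)
      apply inKer_of_smul hF (a := (Polynomial.X : Polynomial T))
      · intro t ht
        exact (Polynomial.isRegular_X).left.eq_iff.mp (by rw [ht, mul_zero])
      · have h1 := hz.sub (h0.bc (cX A T))
        rw [Finset.sum_range_succ', pow_zero, one_smul, add_sub_cancel_right] at h1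
        rw [Finset.smul_sum]
        convert h1 using 2 with k _
        rw [smul_smul, pow_succ']

end OneVar

section MultiVar

variable {F : B →ₚₗ[A] C} {d : ℕ} {T : Type u} [CommRing T] [Algebra A T] {g : C →ₐ[A] T} {κ : Type u}

open Classical in
/-- `X_i ↦ X * X_i`, other variables fixed. -/
noncomputable def theta (i : κ) : MvPolynomial κ T →ₐ[A] Polynomial (MvPolynomial κ T) :=
  evalHom ((cX A (MvPolynomial κ T)).comp (cMap A T κ))
    (fun j => if j = i then Polynomial.X * Polynomial.C (MvPolynomial.X j) else Polynomial.C (MvPolynomial.X j))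

theorem theta_monomial (i : κ) (γ : κ →₀ ℕ) : theta (A := A) (T := T) i (MvPolynomial.monomial γ 1) =
    Polynomial.X ^ (γ i) * Polynomial.C (MvPolynomial.monomial γ 1) := by
  classical
  rw [theta, evalHom_monomial, map_one, one_mul, MvPolynomial.monomial_eq, MvPolynomial.C_1, one_mul, Finsupp.prod,
    Finsupp.prod, map_prod]
  simp_rw [map_pow]
  have h : ∀ j ∈ γ.support, (if j = i then Polynomial.X * Polynomial.C (MvPolynomial.X j : MvPolynomial κ T) else
      Polynomial.C (MvPolynomial.X j)) ^ γ j =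
      (if j = i then Polynomial.X ^ (γ i) else 1) * Polynomial.C (MvPolynomial.X j : MvPolynomial κ T) ^ (γ j) := by
    intro j _
    split_ifs with h
    · rw [mul_pow, h]
    · rw [one_mul]
  rw [Finset.prod_congr rfl h, Finset.prod_mul_distrib, Finset.prod_ite_eq']
  congr 1
  split_ifs with h1
  · rfl
  · rw [Finsupp.notMem_support_iff.mp h1, pow_zero]

theorem theta_comp (i : κ) : (theta i).comp (cMap A T κ) = (cX A (MvPolynomial κ T)).comp (cMap A T κ) :=
  evalHom_comp_cMap _ _

open Classical in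
/-- isolating the part of given degree in one variable. -/
theorem inKer_filter (hF : PolLaw.IsHomog F d) (i : κ) (m : ℕ) (Γ : Finset (κ →₀ ℕ)) (z : (κ →₀ ℕ) → T ⊗[A] B)
    (h : InKer F ((cMap A T κ).comp g)
      (∑ γ ∈ Γ, (MvPolynomial.monomial γ (1 : T)) • bc B (cMap A T κ) (z γ))) :
    InKer F ((cMap A T κ).comp g)
      (∑ γ ∈ Γ with γ i = m, (MvPolynomial.monomial γ (1 : T)) • bc B (cMap A T κ) (z γ)) := by
  let N := Γ.sup (fun γ => γ i) + 1
  have h1 := h.bc (theta i)
  rw [← AlgHom.comp_assoc, theta_comp, AlgHom.comp_assoc, map_sum] at h1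
  have h2 : ∑ γ ∈ Γ, bc B (theta i) ((MvPolynomial.monomial γ (1 : T)) • bc B (cMap A T κ) (z γ)) =
      ∑ k ∈ Finset.range N, (Polynomial.X ^ k : Polynomial (MvPolynomial κ T)) • bc B (cX A (MvPolynomial κ T))
        (∑ γ ∈ Γ with γ i = k, (MvPolynomial.monomial γ (1 : T)) • bc B (cMap A T κ) (z γ)) := by
    have h3 : ∀ γ ∈ Γ, bc B (theta i) ((MvPolynomial.monomial γ (1 : T)) • bc B (cMap A T κ) (z γ)) =
        (Polynomial.X ^ (γ i) : Polynomial (MvPolynomial κ T)) • bc B (cX A (MvPolynomial κ T))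
          ((MvPolynomial.monomial γ (1 : T)) • bc B (cMap A T κ) (z γ)) := by
      intro γ _
      rw [bc_smul, theta_monomial, bc_bc, theta_comp, bc_smul, bc_bc, cX_apply, smul_smul]
    rw [Finset.sum_congr rfl h3]
    simp_rw [map_sum, Finset.smul_sum, Finset.sum_filter]
    rw [Finset.sum_comm]
    refine Finset.sum_congr rfl fun γ hγ => ?_
    rw [Finset.sum_ite_eq, if_pos]
    rw [Finset.mem_range]
    exact Nat.lt_succ_of_le (Finset.le_sup (f := fun γ => γ i) hγ)
  rw [h2] at h1
  by_cases hm : m < N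
  · exact inKer_coeff_one hF N _ h1 m hm
  · have : (Γ.filter fun γ => γ i = m) = ∅ := by
      rw [Finset.filter_eq_empty_iff]
      intro γ hγ hγm
      apply hm
      rw [← hγm]
      exact Nat.lt_succ_of_le (Finset.le_sup (f := fun γ => γ i) hγ)
    rw [this, Finset.sum_empty]
    exact InKer.zero

/-- **Coefficients of an element of the kernel over a polynomial ring lie in the kernel.** -/
theorem inKer_coeff (hF : PolLaw.IsHomog F d) (Γ : Finset (κ →₀ ℕ)) (z : (κ →₀ ℕ) → T ⊗[A] B)
    (h : InKer F ((cMap A T κ).comp g)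
      (∑ γ ∈ Γ, (MvPolynomial.monomial γ (1 : T)) • bc B (cMap A T κ) (z γ))) {δ : κ →₀ ℕ} (hδ : δ ∈ Γ) :
    InKer F g (z δ) := by
  classical
  have h1 : ∀ s : Finset κ, InKer F ((cMap A T κ).comp g)
      (∑ γ ∈ Γ with ∀ i ∈ s, γ i = δ i, (MvPolynomial.monomial γ (1 : T)) • bc B (cMap A T κ) (z γ)) := by
    intro s
    induction s using Finset.induction_on with
    | empty => simpa using h
    | insert i s hi ih =>
      have h2 := inKer_filter hF i (δ i) _ z ih
      rw [Finset.filter_filter] at h2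
      convert h2 using 2
      apply Finset.filter_congr
      intro γ _
      rw [Finset.forall_mem_insert, and_comm]
  have h2 := h1 (Γ.sup (fun γ => γ.support))
  have h3 : (Γ.filter fun γ => ∀ i ∈ Γ.sup (fun γ => γ.support), γ i = δ i) = {δ} := by
    ext γ
    rw [Finset.mem_filter, Finset.mem_singleton]
    constructor
    · rintro ⟨hγ, h4⟩
      ext i
      by_cases hi : i ∈ Γ.sup (fun γ => γ.support)
      · exact h4 i hi
      · have h5 : ∀ γ ∈ Γ, γ i = 0 := by
          intro γ hγ
          by_contra h6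
          apply hi
          exact Finset.mem_of_subset (Finset.le_sup (f := fun γ : κ →₀ ℕ => γ.support) hγ) (Finsupp.mem_support_iff.mpr h6)
        rw [h5 γ hγ, h5 δ hδ]
    · rintro rfl
      exact ⟨hδ, fun _ _ => rfl⟩
  rw [h3, Finset.sum_singleton] at h2
  let e : MvPolynomial κ T →ₐ[A] T := evalHom (AlgHom.id A T) (fun _ => 1)
  have he : e.comp (cMap A T κ) = AlgHom.id A T := evalHom_comp_cMap _ _
  have h4 := h2.bc e
  rw [← AlgHom.comp_assoc, he, AlgHom.id_comp, bc_smul, bc_bc, he] at h4
  have h5 : e (MvPolynomial.monomial δ 1) = 1 := by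
    rw [evalHom_monomial, map_one, one_mul]
    simp
  rw [h5, one_smul] at h4
  simpa using h4

end MultiVar

end K757.Kr
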