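import Groth.Agent.ZeroCyc.K757.Coeff
import Groth.Prelude.Def_PolLaw2
import Mathlib.LinearAlgebra.PiTensorProduct.Basis

/-!
# Symmetric tensors of a free algebra: the universal homogeneous law
-/

set_option autoImplicit false
universe u
open scoped TensorProduct
open K757.Ev K757.Coeff

namespace K757.TSFree

section Mult

variable {ι : Type u} {d : ℕ}

/-- the multi-index of a map `Fin d → ι`. -/
noncomputable def mult (c : Fin d → ι) : ι →₀ ℕ := ∑ k, Finsupp.single (c k) 1

open Classical in
lemma mult_apply (c : Fin d → ι) (i : ι) : mult c i = Fintype.card {k // c k = i} := by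
  rw [mult, Finsupp.finsetSum_apply, Fintype.card_subtype, Finset.card_filter]
  exact Finset.sum_congr rfl fun k _ => by rw [Finsupp.single_apply]

lemma mem_support_mult (c : Fin d → ι) (k : Fin d) : c k ∈ (mult c).support := by
  classical
  rw [Finsupp.mem_support_iff, mult_apply]
  have : Nonempty {k' // c k' = c k} := ⟨⟨k, rfl⟩⟩
  exact Fintype.card_ne_zero

lemma prod_mult {T : Type u} [CommSemiring T] (c : Fin d → ι) (t : ι → T) :
    ((mult c).prod fun i n => t i ^ n) = ∏ k, t (c k) := by
  classical
  rw [mult, ← Finsupp.prod_finsetSum_index (fun i => pow_zero _) (fun i m n => pow_add _ _ _)]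
  refine Finset.prod_congr rfl fun k _ => ?_
  have := Finsupp.prod_single_index (a := c k) (b := 1) (h := fun i n => t i ^ n) (pow_zero _)
  exact this.trans (pow_one _)

lemma monomial_mult {C : Type u} [CommSemiring C] (c : Fin d → ι) (a : C) :
    (MvPolynomial.monomial (mult c) a) = MvPolynomial.C a * ∏ k, (MvPolynomial.X (c k) : MvPolynomial ι C) := by
  rw [MvPolynomial.monomial_eq, prod_mult]

lemma mult_comp_perm (c : Fin d → ι) (σ : Equiv.Perm (Fin d)) : mult (c ∘ σ) = mult c := by
  rw [mult, mult]
  exact Equiv.sum_comp σ (fun k => Finsupp.single (c k) 1)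

/-- two maps with the same multi-index differ by a permutation. -/
lemma exists_perm_of_mult_eq {c c' : Fin d → ι} (h : mult c = mult c') :
    ∃ σ : Equiv.Perm (Fin d), c = c' ∘ σ := by
  classical
  have h1 : ∀ i, Nonempty ({k // c k = i} ≃ {k // c' k = i}) := fun i => by
    rw [← Fintype.card_eq, ← mult_apply, ← mult_apply, h]
  let e := fun i => (h1 i).some
  refine ⟨(Equiv.sigmaFiberEquiv c).symm.trans ((Equiv.sigmaCongrRight e).trans (Equiv.sigmaFiberEquiv c')), ?_⟩
  funext k
  simp only [Function.comp_apply, Equiv.trans_apply]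
  change c k = c' ((e (c k)) ⟨k, rfl⟩).1
  exact ((e (c k)) ⟨k, rfl⟩).2.symm

/-- chosen representative of a multi-index. -/
noncomputable def repA (α : ι →₀ ℕ) (h : ∃ c : Fin d → ι, mult c = α) : Fin d → ι := h.choose

lemma mult_repA (α : ι →₀ ℕ) (h : ∃ c : Fin d → ι, mult c = α) : mult (repA α h) = α := h.choose_spec

lemma repA_congr {α β : ι →₀ ℕ} (h : ∃ c : Fin d → ι, mult c = α) (h' : ∃ c : Fin d → ι, mult c = β)
    (e : α = β) : repA α h = repA β h' := by
  subst e; rfl

/-- chosen representative of the orbit of `c`. -/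
noncomputable def rep (c : Fin d → ι) : Fin d → ι := repA (mult c) ⟨c, rfl⟩

lemma mult_rep (c : Fin d → ι) : mult (rep c) = mult c := mult_repA _ _

lemma rep_congr {c c' : Fin d → ι} (h : mult c = mult c') : rep c = rep c' := repA_congr _ _ h

lemma rep_rep (c : Fin d → ι) : rep (rep c) = rep c := rep_congr (mult_rep c)

end Mult

section Tpow

variable {A : Type u} [CommRing A] {B : Type u} [CommRing B] [Algebra A B] {d : ℕ}

local notation "Q" => (⨂[A] _ : Fin d, B)

lemma prod_single (f : Fin d → B) :
    ∏ j, PiTensorProduct.singleAlgHom (R := A) (A := fun _ : Fin d => B) j (f j) = PiTensorProduct.tprod A f := by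
  simp only [PiTensorProduct.singleAlgHom_apply, MonoidHom.mulSingle_apply]
  rw [← PiTensorProduct.tprod_prod]
  exact congrArg _ (Finset.univ_prod_mulSingle f)

/-- values of a product law. -/
theorem ev_prodMap {C : Type u} [CommRing C] [Algebra A C] {κ : Type} [Fintype κ] (φ : κ → (B →ₐ[A] C))
    (hd : Fintype.card κ = d) {T : Type u} [CommSemiring T] [Algebra A T] (g : C →ₐ[A] T) (x : T ⊗[A] B) :
    ev (PolLaw.MulLaw.prodMap φ d hd).law g x = ∏ j, mulMap (g.comp (φ j)) x := by
  rw [ev, PolLaw.MulLaw.prodMap_toFun', map_prod]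
  refine Finset.prod_congr rfl fun j _ => ?_
  induction x using TensorProduct.induction_on with
  | zero => simp
  | tmul a b => simp
  | add a b ha hb => simp only [map_add, ha, hb]

theorem ev_tpow {T : Type u} [CommSemiring T] [Algebra A T] (g : (⨂[A] _ : Fin d, B) →ₐ[A] T) (x : T ⊗[A] B) :
    ev (SymTen.tpowLaw A B d).law g x =
      ∏ j, mulMap (g.comp (PiTensorProduct.singleAlgHom (A := fun _ : Fin d => B) j)) x :=
  ev_prodMap _ _ g x

theorem gen_tpow {ι : Type u} (e : ι → B) (s : Finset ι) :
    gen (SymTen.tpowLaw A B d).law e s = ∑ c ∈ Fintype.piFinset (fun _ : Fin d => s),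
      MvPolynomial.monomial (mult c) (PiTensorProduct.tprod A (fun k => e (c k))) := by
  classical
  rw [gen, ev_tpow]
  simp only [map_sum, mulMap_tmul]
  rw [Finset.prod_univ_sum]
  refine Finset.sum_congr rfl fun c _ => ?_
  rw [Finset.prod_mul_distrib, monomial_mult, mul_comm]
  congr 1
  rw [← prod_single, map_prod]
  rfl

theorem cf_tpow {ι : Type u} [DecidableEq ι] (e : ι → B) (α : ι →₀ ℕ) :
    cf (SymTen.tpowLaw A B d).law e α = ∑ c ∈ (Fintype.piFinset (fun _ : Fin d => α.support)) with mult c = α,
      PiTensorProduct.tprod A (fun k => e (c k)) := by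
  classical
  rw [cf, gen_tpow, MvPolynomial.coeff_sum, Finset.sum_filter]
  refine Finset.sum_congr rfl fun c _ => ?_
  rw [MvPolynomial.coeff_monomial]

theorem perm_comp_single (σ : Equiv.Perm (Fin d)) (j : Fin d) :
    (SymTen.perm A B d σ).comp (PiTensorProduct.singleAlgHom (A := fun _ : Fin d => B) j) =
      PiTensorProduct.singleAlgHom (A := fun _ : Fin d => B) (σ j) := by
  ext b
  simp only [AlgHom.comp_apply, PiTensorProduct.singleAlgHom_apply, SymTen.perm_tprod]
  congr 1
  funext i
  simp only [MonoidHom.mulSingle_apply, Pi.mulSingle_apply]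
  by_cases h : i = σ j
  · subst h; simp
  · rw [if_neg h, if_neg]
    intro h'; apply h; rw [← h']; simp

/-- the tensor-power law is invariant under the permutations of the factors. -/
theorem postcomp_perm_tpow (σ : Equiv.Perm (Fin d)) :
    PolLaw.postcomp (SymTen.perm A B d σ).toLinearMap (SymTen.tpowLaw A B d).law = (SymTen.tpowLaw A B d).law := by
  refine ext_ev fun T _ _ g x => ?_
  rw [ev_postcomp, ev_tpow, ev_tpow]
  simp only [AlgHom.comp_assoc, perm_comp_single]
  exact Equiv.prod_comp σ (fun j => mulMap (g.comp (PiTensorProduct.singleAlgHom (A := fun _ : Fin d => B) j)) x)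

end Tpow

end K757.TSFree
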